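import Groth.Agent.PCohH7.Approx
import Mathlib.Algebra.Homology.SingleHomology

/-! Induction on terms and on cohomology. -/

set_option autoImplicit false
set_option backward.isDefEq.respectTransparency false

universe w v u

open CategoryTheory CategoryTheory.Limits CochainComplex HomologicalComplex Pretriangulated
open scoped ZeroObject

noncomputable section

namespace Groth.Agent.PCohH7

variable {C : Type u} [Category.{v} C] [Abelian C] [HasDerivedCategory.{w} C]

open DerivedCategory

/-- Induction on the terms of a bounded above complex. -/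
theorem induct_terms (Φ : DerivedCategory C → Prop) (hiso : ∀ X Y, (X ≅ Y) → Φ X → Φ Y)
    (hext : ∀ T : Triangle (DerivedCategory C), T ∈ distinguishedTriangles → Φ T.obj₁ → Φ T.obj₃ → Φ T.obj₂)
    (m : ℤ) (hlow : ∀ X, (∀ i, m ≤ i → IsZero ((homologyFunctor C i).obj X)) → Φ X)
    (E : CochainComplex C ℤ) (b : ℤ) (hb : ∀ j, b < j → IsZero (E.X j))
    (h : ∀ i, m ≤ i → i ≤ b → Φ ((DerivedCategory.singleFunctor C i).obj (E.X i))) : Φ (Q.obj E) := by
  suffices H : ∀ (d : ℕ) (E : CochainComplex C ℤ) (b : ℤ), b + 1 - m ≤ d → (∀ j, b < j → IsZero (E.X j)) →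
      (∀ i, m ≤ i → i ≤ b → Φ ((DerivedCategory.singleFunctor C i).obj (E.X i))) → Φ (Q.obj E) by
    exact H (b + 1 - m).toNat E b (by omega) hb h
  intro d
  induction d with
  | zero =>
    intro E b hd hb _
    exact hlow _ fun i hi => (isZero_H_iff E i).2 (isZero_homology_of_isZero (hb i (by omega)))
  | succ d ih =>
    intro E b hd hb h
    by_cases hbm : b < m
    · exact hlow _ fun i hi => (isZero_H_iff E i).2 (isZero_homology_of_isZero (hb i (by omega)))
    let f : (HomologicalComplex.single C (ComplexShape.up ℤ) b).obj (E.X b) ⟶ E :=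
      mkHomFromSingle (𝟙 (E.X b)) (fun i (hi : b + 1 = i) => (hb i (by omega)).eq_of_tgt _ _)
    have hfb : IsIso (f.f b) := by
      rw [mkHomFromSingle_f]
      infer_instance
    haveI : ∀ j, Mono (f.f j) := fun j => by
      rcases eq_or_ne j b with rfl | hj
      · infer_instance
      · exact ⟨fun g g' _ => (isZero_single_obj_X (ComplexShape.up ℤ) _ _ _ hj).eq_of_tgt g g'⟩
    haveI : Mono f := HomologicalComplex.mono_of_mono_f _ inferInstance
    let S : ShortComplex (CochainComplex C ℤ) := ShortComplex.mk f (cokernel.π f) (cokernel.condition f)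
    have hS : S.ShortExact := { exact := S.exact_of_g_is_cokernel (cokernelIsCokernel f) }
    have hev : ∀ j, (S.map (HomologicalComplex.eval C (ComplexShape.up ℤ) j)).ShortExact :=
      fun j => hS.map_of_exact _
    have hz : ∀ j, b - 1 < j → IsZero (S.X₃.X j) := fun j hj => by
      rcases eq_or_lt_of_le (show b ≤ j by omega) with rfl | hj'
      · exact (hev b).isIso_f_iff.1 hfb
      · haveI := (hev j).epi_g
        exact IsZero.of_epi (S.map (HomologicalComplex.eval C (ComplexShape.up ℤ) j)).g (hb j hj')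
    refine hext _ (triangleOfSES_distinguished hS)
      (hiso _ _ ((DerivedCategory.singleFunctorIsoCompQ C b).app _) (h b (by omega) le_rfl))
      (ih _ (b - 1) (by omega) hz fun i hi hi' => ?_)
    haveI : IsIso (S.g.f i) :=
      (hev i).isIso_g_iff.2 (isZero_single_obj_X (ComplexShape.up ℤ) _ _ _ (by omega))
    exact hiso _ _ ((DerivedCategory.singleFunctor C i).mapIso (asIso (S.g.f i))) (h i hi (by omega))

/-- Induction on the cohomology of an object with bounded above cohomology. -/
theorem induct_homology (Φ : DerivedCategory C → Prop) (hiso : ∀ X Y, (X ≅ Y) → Φ X → Φ Y)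
    (hext : ∀ T : Triangle (DerivedCategory C), T ∈ distinguishedTriangles → Φ T.obj₁ → Φ T.obj₃ → Φ T.obj₂)
    (m : ℤ) (hlow : ∀ X, (∀ i, m ≤ i → IsZero ((homologyFunctor C i).obj X)) → Φ X)
    (E : CochainComplex C ℤ) (b : ℤ) (hb : ∀ j, b < j → IsZero (E.homology j))
    (h : ∀ i, m ≤ i → i ≤ b → Φ ((DerivedCategory.singleFunctor C i).obj (E.homology i))) : Φ (Q.obj E) := by
  suffices H : ∀ (d : ℕ) (E : CochainComplex C ℤ) (b : ℤ), b + 1 - m ≤ d → (∀ j, b < j → IsZero (E.homology j)) →
      (∀ i, m ≤ i → i ≤ b → Φ ((DerivedCategory.singleFunctor C i).obj (E.homology i))) → Φ (Q.obj E) by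
    exact H (b + 1 - m).toNat E b (by omega) hb h
  intro d
  induction d with
  | zero =>
    intro E b hd hb _
    exact hlow _ fun i hi => (isZero_H_iff E i).2 (hb i (by omega))
  | succ d ih =>
    intro E b hd hb h
    by_cases hbm : b < m
    · exact hlow _ fun i hi => (isZero_H_iff E i).2 (hb i (by omega))
    haveI : E.IsLE b := by
      rw [CochainComplex.isLE_iff]
      intro j hj
      exact (exactAt_iff_isZero_homology _ _).2 (hb j hj)
    let K := E.truncLE b
    let q : K ⟶ E := E.ιTruncLE b
    have hd0 : K.d b (b + 1) = 0 := (K.isZero_of_isStrictlyLE b (b + 1) (by omega)).eq_of_tgt _ _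
    haveI : IsIso (K.iCycles b) := K.isIso_iCycles b (b + 1) (by simp) hd0
    let φ : K.X b ⟶ K.homology b := inv (K.iCycles b) ≫ K.homologyπ b
    let f : K ⟶ (HomologicalComplex.single C (ComplexShape.up ℤ) b).obj (K.homology b) :=
      mkHomToSingle φ (fun i _ => by
        rw [← K.toCycles_i i b, Category.assoc, IsIso.hom_inv_id_assoc, toCycles_comp_homologyπ])
    haveI hfe : ∀ j, Epi (f.f j) := fun j => by
      rcases eq_or_ne j b with rfl | hj
      · rw [mkHomToSingle_f]
        infer_instance
      · exact ⟨fun g g' _ => (isZero_single_obj_X (ComplexShape.up ℤ) _ _ _ hj).eq_of_src g g'⟩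
    haveI : Epi f := HomologicalComplex.epi_of_epi_f _ inferInstance
    have hfb : IsIso (homologyMap f b) := by
      have e : homologyMap f b ≫ (singleObjHomologySelfIso (ComplexShape.up ℤ) b (K.homology b)).hom = 𝟙 _ := by
        rw [← cancel_epi (K.homologyπ b), homologyπ_naturality_assoc, homologyπ_singleObjHomologySelfIso_hom,
          singleObjCyclesSelfIso_hom, cyclesMap_i_assoc, Category.comp_id, mkHomToSingle_f]
        simp [φ]
      rw [show homologyMap f b = (singleObjHomologySelfIso (ComplexShape.up ℤ) b (K.homology b)).inv by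
        rw [← cancel_mono (singleObjHomologySelfIso (ComplexShape.up ℤ) b (K.homology b)).hom, e, Iso.inv_hom_id]]
      infer_instance
    let S : ShortComplex (CochainComplex C ℤ) := ShortComplex.mk (kernel.ι f) f (kernel.condition f)
    have hS : S.ShortExact := { exact := S.exact_of_f_is_kernel (kernelIsKernel f) }
    have hsingle : ∀ j, j ≠ b → IsZero (S.X₃.homology j) := fun j hj =>
      isZero_homology_of_isZero (isZero_single_obj_X (ComplexShape.up ℤ) _ _ _ hj)
    have hg : ∀ j, b ≤ j → Mono (homologyMap S.g j) ∧ Epi (homologyMap S.g j) := fun j hj => by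
      rcases eq_or_lt_of_le hj with rfl | hj'
      · haveI := hfb
        exact ⟨inferInstanceAs (Mono (homologyMap f b)), inferInstanceAs (Epi (homologyMap f b))⟩
      · have hzK : IsZero (S.X₂.homology j) :=
          isZero_homology_of_isZero (K.isZero_of_isStrictlyLE b j hj')
        exact ⟨⟨fun _ _ _ => hzK.eq_of_tgt _ _⟩, ⟨fun _ _ _ => (hsingle j (by omega)).eq_of_src _ _⟩⟩
    have hδ : ∀ i j (hij : i + 1 = j), b ≤ i → hS.δ i j hij = 0 := fun i j hij hj => by
      haveI := (hg i hj).2
      rw [← cancel_epi (homologyMap S.g i), hS.comp_δ, comp_zero]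
    have hz : ∀ j, b - 1 < j → IsZero (S.X₁.homology j) := fun j hj => by
      haveI : Mono (homologyMap S.f j) := by
        refine (hS.homology_exact₁ (j - 1) j (by simp)).mono_g ?_
        rcases eq_or_lt_of_le (show b ≤ j by omega) with rfl | hj'
        · exact (hsingle (b - 1) (by omega)).eq_of_src _ _
        · exact hδ (j - 1) j (by omega) (by omega)
      refine IsZero.of_mono_eq_zero (homologyMap S.f j) ?_
      haveI := (hg j (by omega)).1
      rw [← cancel_mono (homologyMap S.g j), zero_comp, ← homologyMap_comp, S.zero, homologyMap_zero]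
    have hlt : ∀ j, j < b → IsIso (homologyMap S.f j) := fun j hj => by
      haveI : Mono (homologyMap S.f j) :=
        (hS.homology_exact₁ (j - 1) j (by simp)).mono_g ((hsingle (j - 1) (by omega)).eq_of_src _ _)
      haveI : Epi (homologyMap S.f j) :=
        (hS.homology_exact₂ j).epi_f ((hsingle j (by omega)).eq_of_tgt _ _)
      exact isIso_of_mono_of_epi _
    have hq : ∀ j, IsIso (homologyMap q j) := (quasiIso_iff_homologyMap q).1 inferInstance
    refine hiso _ _ (asIso (Q.map q)) (hext _ (triangleOfSES_distinguished hS)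
      (ih _ (b - 1) (by omega) hz fun i hi hi' => ?_) ?_)
    · haveI := hlt i (by omega)
      haveI := hq i
      exact hiso _ _ ((DerivedCategory.singleFunctor C i).mapIso
        (asIso (homologyMap S.f i ≫ homologyMap q i)).symm) (h i hi (by omega))
    · haveI := hq b
      exact hiso _ _ ((DerivedCategory.singleFunctor C b).mapIso (asIso (homologyMap q b)).symm ≪≫
        (DerivedCategory.singleFunctorIsoCompQ C b).app _) (h b (by omega) le_rfl)

variable {P : ObjectProperty C}

lemma pcn_single {Y : C} {n : ℤ} (h : PCn P n ((DerivedCategory.singleFunctor C 0).obj Y)) (i m : ℤ)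
    (hm : n + i = m) : PCn P m ((DerivedCategory.singleFunctor C i).obj Y) :=
  (h.shift (-i) m (by omega)).of_iso
    (((DerivedCategory.singleFunctors C).shiftIso (-i) i 0 (by omega)).app Y)

variable [P.IsClosedUnderIsomorphisms] [P.ContainsZero]

/-- Termwise criterion. -/
theorem pcn_of_terms (hsum : ∀ X Y : C, P X → P Y → P (X ⨯ Y)) (hqs : PCoh.IsQuasiStableUnderKernels P)
    (hql : PCoh.IsQuasiLiftable P) (n : ℤ) (F : CochainComplex C ℤ) (b : ℤ) (hb : ∀ i, b < i → IsZero (F.X i))
    (hfp : ∀ i, n ≤ i → PCn P (n - i) ((DerivedCategory.singleFunctor C 0).obj (F.X i))) :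
    PCn P n (Q.obj F) :=
  induct_terms (PCn P n) (fun _ _ e h => h.of_iso e) (fun T hT h h' => pcn_obj₂ hsum hqs hql hT h h') n
    (fun X hX => pcn_of_isZero_H X hX) F b hb fun i hi _ => pcn_single (hfp i hi) i n (by omega)

/-- Cohomological criterion. -/
theorem pcn_of_homology (hsum : ∀ X Y : C, P X → P Y → P (X ⨯ Y)) (hqs : PCoh.IsQuasiStableUnderKernels P)
    (hql : PCoh.IsQuasiLiftable P) (n : ℤ) (F : DerivedCategory C) (b : ℤ)
    (hb : ∀ i, b < i → IsZero ((homologyFunctor C i).obj F))
    (hfp : ∀ i, n ≤ i → PCn P (n - i) ((DerivedCategory.singleFunctor C 0).obj ((homologyFunctor C i).obj F))) :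
    PCn P n F := by
  obtain ⟨K, ⟨e⟩⟩ := exists_complex F
  let eH : ∀ i, K.homology i ≅ (homologyFunctor C i).obj F := fun i =>
    ((homologyFunctorFactors C i).app K).symm ≪≫ (homologyFunctor C i).mapIso e
  refine PCn.of_iso ?_ e
  exact induct_homology (PCn P n) (fun _ _ e h => h.of_iso e) (fun T hT h h' => pcn_obj₂ hsum hqs hql hT h h') n
    (fun X hX => pcn_of_isZero_H X hX) K b (fun j hj => (hb j hj).of_iso (eH j))
    fun i hi _ => (pcn_single (hfp i hi) i n (by omega)).of_iso
      ((DerivedCategory.singleFunctor C i).mapIso (eH i).symm)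

/-- An `n`-pseudo-coherent object without cohomology in degrees `≥ i` has a strict model vanishing there. -/
theorem exists_strict_above (hsum : ∀ X Y : C, P X → P Y → P (X ⨯ Y)) (hqs : PCoh.IsQuasiStableUnderKernels P)
    (hql : PCoh.IsQuasiLiftable P) {n i : ℤ} (hni : n ≤ i) (F : DerivedCategory C) (hF : PCn P n F)
    (hac : ∀ j, i ≤ j → IsZero ((homologyFunctor C j).obj F)) :
    ∃ E : CochainComplex C ℤ, PCoh.IsStrictPC P n E ∧ (∀ j, i ≤ j → IsZero (E.X j)) ∧
      Nonempty (Q.obj E ≅ F) := by
  obtain ⟨K, ⟨e⟩⟩ := exists_complex F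
  obtain ⟨E₁, u₁, h1, h2, h3⟩ := exists_perfect_approx hsum hql hni K
    (fun j hj => (isZero_H_iff K j).1 ((hac j hj).of_iso ((homologyFunctor C j).mapIso e)))
    (fun k E' u' hk _ hu hE => ft_cone_of_strict hsum hqs hql hk u' hu hE (hF.of_iso e.symm))
  obtain ⟨E', v, u', -, h5, h6, -, h8⟩ := exists_strictPC_qis u₁ h3
    ⟨⟨i, fun j hj => h2 j (Or.inr hj.le)⟩, fun j _ => h1 j⟩
  haveI := h6
  refine ⟨E', h5, fun j hj => ?_, ⟨asIso (Q.map u') ≪≫ e⟩⟩
  haveI := h8 j (hni.trans hj)
  exact (h2 j (Or.inr hj)).of_iso (asIso (v.f j)).symm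

end Groth.Agent.PCohH7
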