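import Groth.Agent.PCohH7.Modify

/-! Approximation by complexes with terms in the subcategory. -/

set_option autoImplicit false
set_option backward.isDefEq.respectTransparency false

universe w v u

open CategoryTheory CategoryTheory.Limits CochainComplex HomologicalComplex Pretriangulated
open scoped ZeroObject

noncomputable section

namespace Groth.Agent.PCohH7

variable {C : Type u} [Category.{v} C] [Abelian C] {P : ObjectProperty C}

/-- The top cohomology of a strictly pseudo-coherent complex is of finite type. -/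
theorem ft_homology (hqs : PCoh.IsQuasiStableUnderKernels P) [P.IsClosedUnderIsomorphisms]
    (n : ℤ) (E : CochainComplex C ℤ) (hE : PCoh.IsStrictPC P n E)
    (hac : ∀ i : ℤ, n < i → IsZero (E.homology i)) :
    PCoh.IsOfFiniteType P (E.homology n) := by
  obtain ⟨⟨b, hb⟩, hP⟩ := hE
  let X : ℕ → C := fun k => match k with
    | 0 => E.cycles (n + (0 : ℕ))
    | j + 1 => E.X (n + (j : ℕ))
  let d : ∀ k, X k ⟶ X (k + 1) := fun k => match k with
    | 0 => E.iCycles (n + (0 : ℕ))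
    | j + 1 => E.d (n + (j : ℕ)) (n + ((j + 1 : ℕ) : ℤ))
  have sq : ∀ k, d k ≫ d (k + 1) = 0 := fun k => match k with
    | 0 => E.iCycles_d _ _
    | j + 1 => E.d_comp_d _ _ _
  let K : CochainComplex C ℕ := CochainComplex.of X d sq
  have hd : ∀ i, K.d i (i + 1) = d i := fun i => by
    simp only [K]
    unfold CochainComplex.of.d
    rw [dif_pos rfl]
    exact Category.comp_id _
  have hK : ∀ i, K.ExactAt i := by
    rintro (_ | _ | j)
    · rw [K.exactAt_iff' 0 0 1 (by simp) (by simp), ShortComplex.exact_iff_mono _ (K.shape 0 0 (by simp))]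
      show Mono (K.d 0 1)
      rw [hd 0]
      exact inferInstanceAs (Mono (E.iCycles _))
    · rw [K.exactAt_iff' 0 1 2 (by simp) (by simp)]
      show (ShortComplex.mk (K.d 0 1) (K.d 1 (1 + 1)) (K.d_comp_d _ _ _)).Exact
      simp only [hd 0, hd 1]
      exact ShortComplex.exact_of_f_is_kernel _ (E.cyclesIsKernel _ _ (by simp))
    · rw [K.exactAt_iff' (j + 1) (j + 2) (j + 3) (by simp) (by simp)]
      show (ShortComplex.mk (K.d (j + 1) (j + 1 + 1)) (K.d (j + 2) (j + 2 + 1)) (K.d_comp_d _ _ _)).Exact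
      simp only [hd]
      have he := (HomologicalComplex.exactAt_iff_isZero_homology _ _).2 (hac (n + ((j + 1 : ℕ) : ℤ)) (by omega))
      rw [E.exactAt_iff' (n + (j : ℕ)) (n + ((j + 1 : ℕ) : ℤ)) (n + ((j + 2 : ℕ) : ℤ)) (by simp; omega)
        (by simp; omega)] at he
      exact he
  obtain ⟨Z, π, hZ, hπ⟩ := hqs K hK ⟨(b + 1 - n).toNat, fun i hi => by
      obtain ⟨j, rfl⟩ := Nat.exists_eq_succ_of_ne_zero (by omega : i ≠ 0)
      exact hb _ (by omega)⟩ (fun i hi => by
      obtain ⟨j, rfl⟩ := Nat.exists_eq_succ_of_ne_zero (by omega : i ≠ 0)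
      exact hP _ (by omega))
  have h : PCoh.IsOfFiniteType P (E.cycles (n + (0 : ℕ))) := ⟨Z, π, hZ, hπ⟩
  rw [Nat.cast_zero, add_zero] at h
  exact isOfFiniteType_of_epi (E.homologyπ n) h

section Derived

variable [HasDerivedCategory.{w} C] [P.IsClosedUnderIsomorphisms]

open DerivedCategory

/-- The top cohomology of a pseudo-coherent object is of finite type. -/
theorem ft_H (hqs : PCoh.IsQuasiStableUnderKernels P) {n : ℤ} {X : DerivedCategory C} (h : PCn P n X)
    (hac : ∀ i : ℤ, n < i → IsZero ((homologyFunctor C i).obj X)) :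
    PCoh.IsOfFiniteType P ((homologyFunctor C n).obj X) := by
  obtain ⟨E, hE, ⟨e⟩⟩ := h
  refine isOfFiniteType_of_iso (((homologyFunctorFactors C n).app E).symm ≪≫ (homologyFunctor C n).mapIso e)
    (ft_homology hqs n E hE fun i hi => (isZero_H_iff E i).1 ?_)
  exact (hac i hi).of_iso ((homologyFunctor C i).mapIso e)

end Derived

attribute [local instance] HasDerivedCategory.standard in
/-- Composing with a quasi-isomorphism does not change the homology of the cone. -/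
lemma nonempty_cone_comp_iso {E F G : CochainComplex C ℤ} (v : E ⟶ F) (q : F ⟶ G) [QuasiIso q] (k : ℤ) :
    Nonempty ((mappingCone v).homology k ≅ (mappingCone (v ≫ q)).homology k) := by
  let e := isoTriangleOfIso₁₂ _ _ (DerivedCategory.mappingCone_triangle_distinguished v)
    (DerivedCategory.mappingCone_triangle_distinguished (v ≫ q)) (Iso.refl _) (asIso (DerivedCategory.Q.map q))
    (by
      show DerivedCategory.Q.map v ≫ DerivedCategory.Q.map q = 𝟙 _ ≫ DerivedCategory.Q.map (v ≫ q)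
      simp)
  exact ⟨((DerivedCategory.homologyFunctorFactors C k).app (mappingCone v)).symm ≪≫
    (DerivedCategory.homologyFunctor C k).mapIso (Triangle.π₃.mapIso e) ≪≫
    (DerivedCategory.homologyFunctorFactors C k).app (mappingCone (v ≫ q))⟩

variable [P.IsClosedUnderIsomorphisms] [P.ContainsZero]

/-- Improving an `i`-quasi-isomorphism to an `n`-quasi-isomorphism by modifications in degrees in `[n, i)`. -/
theorem approx (hsum : ∀ X Y : C, P X → P Y → P (X ⨯ Y)) (hql : PCoh.IsQuasiLiftable P) {n i : ℤ} (hni : n ≤ i)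
    {E F : CochainComplex C ℤ} (u : E ⟶ F) (hu : NQis i u) (b : ℤ) (hb : ∀ j, b < j → IsZero (E.X j))
    (hP : ∀ j, n ≤ j → P (E.X j))
    (hFT : ∀ (k : ℤ) (E' : CochainComplex C ℤ) (u' : E' ⟶ F), n ≤ k → k < i → NQis (k + 1) u' →
      PCoh.IsStrictPC P n E' → PCoh.IsOfFiniteType P ((mappingCone u').homology k)) :
    ∃ (E' : CochainComplex C ℤ) (v : E ⟶ E') (u' : E' ⟶ F), v ≫ u' = u ∧ (∀ j, Mono (v.f j)) ∧
      (∀ j, i ≤ j → IsIso (v.f j)) ∧ (∀ j, j < n → IsIso (v.f j)) ∧ (∀ j, P (E.X j) → P (E'.X j)) ∧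
      (∀ j, max b i < j + 1 → i ≤ j → b < j → IsZero (E'.X j)) ∧ NQis n u' := by
  suffices h : ∀ m : ℕ, n ≤ i - m → ∃ (E' : CochainComplex C ℤ) (v : E ⟶ E') (u' : E' ⟶ F), v ≫ u' = u ∧
      (∀ j, Mono (v.f j)) ∧ (∀ j, i ≤ j → IsIso (v.f j)) ∧ (∀ j, j < i - m → IsIso (v.f j)) ∧
      (∀ j, P (E.X j) → P (E'.X j)) ∧ NQis (i - m) u' by
    obtain ⟨E', v, u', h1, h2, h3, h4, h5, h6⟩ := h (i - n).toNat (by omega)
    rw [show i - ((i - n).toNat : ℤ) = n by omega] at h4 h6
    exact ⟨E', v, u', h1, h2, h3, h4, h5,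
      fun j _ hj hj' => by haveI := h3 j hj; exact (hb j hj').of_iso (asIso (v.f j)).symm, h6⟩
  intro m
  induction m with
  | zero =>
    intro _
    exact ⟨E, 𝟙 E, u, Category.id_comp _, fun j => inferInstance, fun j _ => inferInstance, fun j _ => inferInstance,
      fun j h => h, by simpa using hu⟩
  | succ m ih =>
    intro hm
    obtain ⟨E', v, u', h1, h2, h3, h4, h5, h6⟩ := ih (by omega)
    have hk : i - (m : ℤ) = i - ((m + 1 : ℕ) : ℤ) + 1 := by omega
    rw [hk] at h6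
    have hspc : PCoh.IsStrictPC P n E' := ⟨⟨max b i, fun j hj => by
      haveI := h3 j (by omega)
      exact (hb j (by omega)).of_iso (asIso (v.f j)).symm⟩, fun j hj => h5 j (hP j hj)⟩
    obtain ⟨E'', v', u'', g1, g2, g3, -, g5, g6⟩ :=
      modify hsum hql _ u' h6 (hFT _ E' u' hm (by omega) h6 hspc)
    refine ⟨E'', v ≫ v', u'', by rw [Category.assoc, g1, h1], fun j => ?_, fun j hj => ?_, fun j hj => ?_,
      fun j hj => g5 j (h5 j hj), g6⟩
    · haveI := h2 j
      haveI := g2 j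
      rw [comp_f]
      infer_instance
    · haveI := h3 j hj
      haveI := g3 j (by omega)
      rw [comp_f]
      infer_instance
    · haveI := h4 j (by omega)
      haveI := g3 j (by omega)
      rw [comp_f]
      infer_instance

/-- A complex with vanishing cohomology in degrees `≥ i` receives an `n`-quasi-isomorphism from a strictly
perfect complex, if the cohomology of cones is of finite type. -/
theorem exists_perfect_approx (hsum : ∀ X Y : C, P X → P Y → P (X ⨯ Y)) (hql : PCoh.IsQuasiLiftable P)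
    {n i : ℤ} (hni : n ≤ i) (F : CochainComplex C ℤ) (hF : ∀ j, i ≤ j → IsZero (F.homology j))
    (hFT : ∀ (k : ℤ) (E' : CochainComplex C ℤ) (u' : E' ⟶ F), n ≤ k → k < i → NQis (k + 1) u' →
      PCoh.IsStrictPC P n E' → PCoh.IsOfFiniteType P ((mappingCone u').homology k)) :
    ∃ (E : CochainComplex C ℤ) (u : E ⟶ F), (∀ j, P (E.X j)) ∧ (∀ j, j < n ∨ i ≤ j → IsZero (E.X j)) ∧
      NQis n u := by
  have hX : ∀ j, IsZero ((0 : CochainComplex C ℤ).X j) := fun j =>
    (HomologicalComplex.eval C (ComplexShape.up ℤ) j).map_isZero (isZero_zero _)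
  obtain ⟨E, v, u, -, -, h3, h4, h5, -, h6⟩ := approx hsum hql hni (0 : (0 : CochainComplex C ℤ) ⟶ F)
    (nqis_from_zero F (isZero_zero _) hF _) (i - 1) (fun j _ => hX j) (fun j _ => mem_of_isZero (hX j)) hFT
  refine ⟨E, u, fun j => h5 j (mem_of_isZero (hX j)), fun j hj => ?_, h6⟩
  rcases hj with hj | hj
  · haveI := h4 j hj
    exact (hX j).of_iso (asIso (v.f j)).symm
  · haveI := h3 j hj
    exact (hX j).of_iso (asIso (v.f j)).symm

/-- An `n`-quasi-isomorphism from a strictly `n`-pseudo-coherent complex can be completed. -/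
theorem exists_strictPC_qis {n : ℤ} {E F : CochainComplex C ℤ} (u : E ⟶ F) (hu : NQis n u)
    (hE : PCoh.IsStrictPC P n E) :
    ∃ (E' : CochainComplex C ℤ) (v : E ⟶ E') (u' : E' ⟶ F), v ≫ u' = u ∧ PCoh.IsStrictPC P n E' ∧ QuasiIso u' ∧
      (∀ j, Mono (v.f j)) ∧ (∀ j, n ≤ j → IsIso (v.f j)) := by
  obtain ⟨E', v, u', h1, h2, h3, h4⟩ := factor n u hu
  obtain ⟨⟨b, hb⟩, hP⟩ := hE
  refine ⟨E', v, u', h1, ⟨⟨max b n, fun j hj => ?_⟩, fun j hj => ?_⟩, h2, h3, h4⟩
  · haveI := h4 j (by omega)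
    exact (hb j (by omega)).of_iso (asIso (v.f j)).symm
  · haveI := h4 j hj
    exact P.prop_of_iso (asIso (v.f j)) (hP j hj)

/-- A complex quasi-isomorphic to the source of a strictly pseudo-coherent one receives a quasi-isomorphism
from a strictly pseudo-coherent complex. -/
theorem lift_spc (hsum : ∀ X Y : C, P X → P Y → P (X ⨯ Y)) (hqs : PCoh.IsQuasiStableUnderKernels P)
    (hql : PCoh.IsQuasiLiftable P) {n : ℤ} {E F : CochainComplex C ℤ} (hF : PCoh.IsStrictPC P n F) (q : E ⟶ F)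
    [QuasiIso q] : ∃ (F' : CochainComplex C ℤ) (v : F' ⟶ E), PCoh.IsStrictPC P n F' ∧ QuasiIso v := by
  obtain ⟨⟨b, hb⟩, hP⟩ := hF
  obtain ⟨E₁, u₁, h1, h2, h3⟩ := exists_perfect_approx hsum hql (le_max_left n (b + 1)) E
    (fun j hj => (isZero_homology_of_isZero (hb j (by omega))).of_iso (asIso (homologyMap q j)))
    (fun k E' u' hk _ hu' hE' => by
      obtain ⟨e⟩ := nonempty_cone_comp_iso u' q k
      refine isOfFiniteType_of_iso e.symm (ft_homology hqs k _ ⟨?_, fun j hj => ?_⟩ fun j hj => ?_)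
      · obtain ⟨c, hc⟩ := hE'.1
        exact ⟨max b c, fun j hj => by
          rw [mappingCone.isZero_X_iff]
          exact ⟨hc _ (by omega), hb _ (by omega)⟩⟩
      · exact cone_mem hsum _ j (hE'.2 _ (by omega)) (hP j (by omega))
      · obtain ⟨e'⟩ := nonempty_cone_comp_iso u' q j
        exact ((nqis_iff_cone u' (k + 1)).1 hu' j (by omega)).of_iso e'.symm)
  obtain ⟨F', v, u', -, h5, h6, -⟩ := exists_strictPC_qis u₁ h3
    ⟨⟨max n (b + 1), fun j hj => h2 j (Or.inr (by omega))⟩, fun j _ => h1 j⟩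
  exact ⟨F', u', h5, h6⟩

section DerivedCone

variable [HasDerivedCategory.{w} C]

open DerivedCategory

/-- Cones: if the source is `(n + 1)`- and the target `n`-pseudo-coherent, the cone is `n`-pseudo-coherent. -/
theorem pcn_obj₃ (hsum : ∀ X Y : C, P X → P Y → P (X ⨯ Y)) (hqs : PCoh.IsQuasiStableUnderKernels P)
    (hql : PCoh.IsQuasiLiftable P) {n : ℤ} {T : Triangle (DerivedCategory C)} (hT : T ∈ distinguishedTriangles)
    (h₁ : PCn P (n + 1) T.obj₁) (h₂ : PCn P n T.obj₂) : PCn P n T.obj₃ := by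
  obtain ⟨E, hE, ⟨e₁⟩⟩ := h₁
  obtain ⟨F, hF, ⟨e₂⟩⟩ := h₂
  obtain ⟨G, s, hs, g, hg⟩ := DerivedCategory.right_fac (e₁.hom ≫ T.mor₁ ≫ e₂.inv)
  haveI : QuasiIso s := (isIso_Q_map_iff_quasiIso (φ := s)).1 hs
  obtain ⟨E₂, v, hE₂, hv⟩ := lift_spc hsum hqs hql hE s
  let e₁' : Q.obj E₂ ≅ T.obj₁ := asIso (Q.map (v ≫ s)) ≪≫ e₁
  have comm : Q.map (v ≫ g) ≫ e₂.hom = e₁'.hom ≫ T.mor₁ := by
    simp only [e₁', Iso.trans_hom, asIso_hom, Functor.map_comp, Category.assoc]
    rw [(IsIso.eq_inv_comp (Q.map s)).1 hg |>.symm]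
    simp
  let e := isoTriangleOfIso₁₂ (Q.mapTriangle.obj (mappingCone.triangle (v ≫ g))) T
    (DerivedCategory.mappingCone_triangle_distinguished _) hT e₁' e₂ comm
  refine ⟨mappingCone (v ≫ g), ⟨?_, fun j hj => ?_⟩, ⟨Triangle.π₃.mapIso e⟩⟩
  · obtain ⟨b, hb⟩ := hE₂.1
    obtain ⟨c, hc⟩ := hF.1
    exact ⟨max b c, fun j hj => by
      rw [mappingCone.isZero_X_iff]
      exact ⟨hb _ (by omega), hc _ (by omega)⟩⟩
  · exact cone_mem hsum _ j (hE₂.2 _ (by omega)) (hF.2 j hj)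

theorem pcn_obj₂ (hsum : ∀ X Y : C, P X → P Y → P (X ⨯ Y)) (hqs : PCoh.IsQuasiStableUnderKernels P)
    (hql : PCoh.IsQuasiLiftable P) {n : ℤ} {T : Triangle (DerivedCategory C)} (hT : T ∈ distinguishedTriangles)
    (h₁ : PCn P n T.obj₁) (h₃ : PCn P n T.obj₃) : PCn P n T.obj₂ :=
  pcn_obj₃ hsum hqs hql (inv_rot_of_distTriang T hT) (h₃.shift (-1) (n + 1) (by omega)) h₁

theorem pcn_obj₁ (hsum : ∀ X Y : C, P X → P Y → P (X ⨯ Y)) (hqs : PCoh.IsQuasiStableUnderKernels P)
    (hql : PCoh.IsQuasiLiftable P) {n : ℤ} {T : Triangle (DerivedCategory C)} (hT : T ∈ distinguishedTriangles)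
    (h₂ : PCn P (n + 1) T.obj₂) (h₃ : PCn P n T.obj₃) : PCn P (n + 1) T.obj₁ :=
  pcn_obj₂ hsum hqs hql (inv_rot_of_distTriang T hT) (h₃.shift (-1) (n + 1) (by omega)) h₂

/-- Finite type of the cohomology of the cone of an approximation. -/
theorem ft_cone (hsum : ∀ X Y : C, P X → P Y → P (X ⨯ Y)) (hqs : PCoh.IsQuasiStableUnderKernels P)
    (hql : PCoh.IsQuasiLiftable P) {k : ℤ} {E F : CochainComplex C ℤ} (u : E ⟶ F) (hE : PCn P (k + 1) (Q.obj E))
    (hF : PCn P k (Q.obj F)) (hu : NQis (k + 1) u) :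
    PCoh.IsOfFiniteType P ((mappingCone u).homology k) := by
  have h := pcn_obj₃ hsum hqs hql (DerivedCategory.mappingCone_triangle_distinguished u) hE hF
  refine isOfFiniteType_of_iso ((homologyFunctorFactors C k).app _) (ft_H hqs h fun j hj => ?_)
  exact (isZero_H_iff _ j).2 ((nqis_iff_cone u (k + 1)).1 hu j (by omega))

theorem ft_cone_of_strict (hsum : ∀ X Y : C, P X → P Y → P (X ⨯ Y)) (hqs : PCoh.IsQuasiStableUnderKernels P)
    (hql : PCoh.IsQuasiLiftable P) {n k : ℤ} (hk : n ≤ k) {E F : CochainComplex C ℤ} (u : E ⟶ F)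
    (hu : NQis (k + 1) u) (hE : PCoh.IsStrictPC P n E) (hF : PCn P n (Q.obj F)) :
    PCoh.IsOfFiniteType P ((mappingCone u).homology k) :=
  ft_cone hsum hqs hql u ((pcn_Q hE).mono (by omega)) (hF.mono hk) hu

theorem exists_bound {n : ℤ} {F : CochainComplex C ℤ} (hF : PCn P n (Q.obj F)) :
    ∃ i, n ≤ i ∧ ∀ j, i ≤ j → IsZero (F.homology j) := by
  obtain ⟨E, ⟨⟨b, hb⟩, -⟩, ⟨e⟩⟩ := hF
  refine ⟨max n (b + 1), le_max_left _ _, fun j hj => (isZero_H_iff F j).1 ?_⟩
  exact ((isZero_H_iff E j).2 (isZero_homology_of_isZero (hb j (by omega)))).of_iso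
    ((homologyFunctor C j).mapIso e).symm

/-- The criterion by approximation. -/
theorem pcn_of_nqis {n : ℤ} {E F : CochainComplex C ℤ} (u : E ⟶ F) (hu : NQis n u)
    (hE : PCoh.IsStrictPC P n E) : PCn P n (Q.obj F) := by
  obtain ⟨E', v, u', -, h5, h6, -⟩ := exists_strictPC_qis u hu hE
  haveI := h6
  exact ⟨E', h5, ⟨asIso (Q.map u')⟩⟩

/-- Pseudo-coherence of a complex by finite type of the cohomology of cones. -/
theorem pcn_of_ft (hsum : ∀ X Y : C, P X → P Y → P (X ⨯ Y)) (hql : PCoh.IsQuasiLiftable P) {n i : ℤ}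
    (hni : n ≤ i) (F : CochainComplex C ℤ) (hF : ∀ j, i ≤ j → IsZero (F.homology j))
    (hFT : ∀ (k : ℤ) (E' : CochainComplex C ℤ) (u' : E' ⟶ F), n ≤ k → k < i → NQis (k + 1) u' →
      PCoh.IsStrictPC P n E' → PCoh.IsOfFiniteType P ((mappingCone u').homology k)) :
    PCn P n (Q.obj F) := by
  obtain ⟨E, u, h1, h2, h3⟩ := exists_perfect_approx hsum hql hni F hF hFT
  exact pcn_of_nqis u h3 ⟨⟨i, fun j hj => h2 j (Or.inr hj.le)⟩, fun j _ => h1 j⟩

/-- Objects without cohomology in degrees `≥ n` are `n`-pseudo-coherent. -/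
theorem pcn_of_isZero_H {n : ℤ} (X : DerivedCategory C)
    (h : ∀ i, n ≤ i → IsZero ((homologyFunctor C i).obj X)) : PCn P n X := by
  let K := Q.objPreimage X
  refine (pcn_of_nqis (P := P) (0 : (0 : CochainComplex C ℤ) ⟶ K) (nqis_from_zero K (isZero_zero _)
    (fun i hi => (isZero_H_iff K i).1 ((h i hi).of_iso ((homologyFunctor C i).mapIso (Q.objObjPreimageIso X)))) _)
    ⟨⟨n, fun j _ => ?_⟩, fun j _ => mem_of_isZero ?_⟩).of_iso (Q.objObjPreimageIso X)
  all_goals exact (HomologicalComplex.eval C (ComplexShape.up ℤ) j).map_isZero (isZero_zero _)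

theorem exists_complex (X : DerivedCategory C) : ∃ K : CochainComplex C ℤ, Nonempty (Q.obj K ≅ X) :=
  ⟨_, ⟨Q.objObjPreimageIso X⟩⟩

end DerivedCone

end Groth.Agent.PCohH7
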