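import Groth.Prelude.Def_PCoh
import Mathlib.Algebra.Homology.DerivedCategory.Fractions
import Mathlib.Algebra.Homology.DerivedCategory.HomologySequence
import Mathlib.Algebra.Homology.DerivedCategory.ShortExact
import Mathlib.Algebra.Homology.DerivedCategory.TStructure
import Mathlib.CategoryTheory.Abelian.Refinements

/-! Pseudo-coherence in an abelian category: vocabulary and homological criteria. -/

set_option autoImplicit false
set_option backward.isDefEq.respectTransparency false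

universe w v u

open CategoryTheory CategoryTheory.Limits Pretriangulated

noncomputable section

namespace Groth.Agent.PCohH7

variable {C : Type u} [Category.{v} C] [Abelian C]

lemma biprod_mem {P : ObjectProperty C} [P.IsClosedUnderIsomorphisms]
    (hsum : ∀ X Y : C, P X → P Y → P (X ⨯ Y)) {X Y : C} (hX : P X) (hY : P Y) : P (X ⊞ Y) :=
  P.prop_of_iso (biprod.isoProd X Y).symm (hsum _ _ hX hY)

lemma mem_of_isZero {P : ObjectProperty C} [P.IsClosedUnderIsomorphisms] [P.ContainsZero] {X : C} (h : IsZero X) :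
    P X := P.prop_of_isZero h

lemma cone_mem {P : ObjectProperty C} [P.IsClosedUnderIsomorphisms]
    (hsum : ∀ X Y : C, P X → P Y → P (X ⨯ Y)) {E F : CochainComplex C ℤ} (u : E ⟶ F) (i : ℤ)
    (hE : P (E.X (i + 1))) (hF : P (F.X i)) : P ((CochainComplex.mappingCone u).X i) :=
  P.prop_of_iso (HomologicalComplex.homotopyCofiber.XIsoBiprod u i (i + 1) rfl).symm (biprod_mem hsum hE hF)

variable (P : ObjectProperty C)

/-- `u` is an `n`-quasi-isomorphism. -/
def NQis (n : ℤ) {E F : CochainComplex C ℤ} (u : E ⟶ F) : Prop :=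
  (∀ i, n < i → IsIso (HomologicalComplex.homologyMap u i)) ∧ Epi (HomologicalComplex.homologyMap u n)

lemma NQis.mono {n m : ℤ} {E F : CochainComplex C ℤ} {u : E ⟶ F} (h : NQis n u) (hnm : n ≤ m) : NQis m u := by
  refine ⟨fun i hi => h.1 i (lt_of_le_of_lt hnm hi), ?_⟩
  rcases eq_or_lt_of_le hnm with rfl | h'
  · exact h.2
  · haveI := h.1 m h'
    infer_instance

lemma nqis_from_zero {n : ℤ} (F : CochainComplex C ℤ) {E : CochainComplex C ℤ} (hE : IsZero E)
    (hF : ∀ i, n ≤ i → IsZero (F.homology i)) (u : E ⟶ F) : NQis n u := by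
  have hz : ∀ i, IsZero (E.homology i) := fun i => (HomologicalComplex.homologyFunctor C _ i).map_isZero hE
  exact ⟨fun i hi => ⟨⟨0, (hz i).eq_of_src _ _, (hF i hi.le).eq_of_src _ _⟩⟩,
    ⟨fun g g' _ => (hF n le_rfl).eq_of_src g g'⟩⟩

lemma isZero_homology_of_isZero {E : CochainComplex C ℤ} {i : ℤ} (h : IsZero (E.X i)) : IsZero (E.homology i) :=
  (HomologicalComplex.ExactAt.of_isZero (K := E) h).isZero_homology

lemma isZero_biprod {X Y : C} (hX : IsZero X) (hY : IsZero Y) : IsZero (X ⊞ Y) :=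
  (biprod_isZero_iff X Y).2 ⟨hX, hY⟩

section Derived

variable [HasDerivedCategory.{w} C]

open DerivedCategory

/-- `n`-pseudo-coherent objects of the derived category. -/
abbrev PCn (n : ℤ) (X : DerivedCategory C) : Prop :=
  ∃ E : CochainComplex C ℤ, PCoh.IsStrictPC P n E ∧ Nonempty (DerivedCategory.Q.obj E ≅ X)

lemma PCn.of_iso {P : ObjectProperty C} {n : ℤ} {X Y : DerivedCategory C} (h : PCn P n X) (e : X ≅ Y) :
    PCn P n Y := by
  obtain ⟨E, hE, ⟨e'⟩⟩ := h
  exact ⟨E, hE, ⟨e' ≪≫ e⟩⟩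

lemma pcn_Q {P : ObjectProperty C} {n : ℤ} {E : CochainComplex C ℤ} (h : PCoh.IsStrictPC P n E) :
    PCn P n (Q.obj E) := ⟨E, h, ⟨Iso.refl _⟩⟩

lemma PCn.mono {P : ObjectProperty C} {n m : ℤ} {X : DerivedCategory C} (h : PCn P n X) (hnm : n ≤ m) :
    PCn P m X := by
  obtain ⟨E, hE, he⟩ := h
  exact ⟨E, ⟨hE.1, fun i hi => hE.2 i (hnm.trans hi)⟩, he⟩

lemma PCn.shift {P : ObjectProperty C} {n : ℤ} {X : DerivedCategory C} (h : PCn P n X) (m n' : ℤ)
    (hn : n' + m = n) : PCn P n' ((shiftFunctor (DerivedCategory C) m).obj X) := by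
  obtain ⟨E, ⟨⟨b, hb⟩, hE⟩, ⟨e⟩⟩ := h
  refine ⟨(shiftFunctor (CochainComplex C ℤ) m).obj E, ⟨⟨b - m, fun i hi => hb (i + m) (by omega)⟩,
    fun i hi => hE (i + m) (by omega)⟩,
    ⟨(DerivedCategory.Q.commShiftIso m).app E ≪≫ (shiftFunctor _ m).mapIso e⟩⟩

lemma isZero_H_iff (K : CochainComplex C ℤ) (i : ℤ) :
    IsZero ((homologyFunctor C i).obj (Q.obj K)) ↔ IsZero (K.homology i) :=
  ((homologyFunctorFactors C i).app K).isZero_iff

lemma isIso_H_iff {K L : CochainComplex C ℤ} (f : K ⟶ L) (i : ℤ) :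
    IsIso ((homologyFunctor C i).map (Q.map f)) ↔ IsIso (HomologicalComplex.homologyMap f i) :=
  NatIso.isIso_map_iff (homologyFunctorFactors C i) f

lemma epi_H_iff {K L : CochainComplex C ℤ} (f : K ⟶ L) (i : ℤ) :
    Epi ((homologyFunctor C i).map (Q.map f)) ↔ Epi (HomologicalComplex.homologyMap f i) :=
  (MorphismProperty.epimorphisms C).arrow_mk_iso_iff
    (((Functor.mapArrowFunctor _ _).mapIso (homologyFunctorFactors C i)).app (Arrow.mk f))

/-- The long exact sequence reading of an `n`-isomorphism. -/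
lemma niso_iff_of_distTriang {T : Triangle (DerivedCategory C)} (hT : T ∈ distinguishedTriangles) (n : ℤ) :
    ((∀ i, n < i → IsIso ((homologyFunctor C i).map T.mor₁)) ∧ Epi ((homologyFunctor C n).map T.mor₁)) ↔
      ∀ i, n ≤ i → IsZero ((homologyFunctor C i).obj T.obj₃) := by
  constructor
  · rintro ⟨h1, h2⟩ i hi
    have he : Epi ((homologyFunctor C i).map T.mor₁) := by
      rcases eq_or_lt_of_le hi with rfl | h'
      · exact h2
      · haveI := h1 i h'
        infer_instance
    have hm : Mono ((homologyFunctor C (i + 1)).map T.mor₁) := by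
      haveI := h1 (i + 1) (by omega)
      infer_instance
    exact (HomologySequence.exact₃ T hT i (i + 1) rfl).isZero_X₂
      ((HomologySequence.epi_homologyMap_mor₁_iff T hT i).1 he)
      ((HomologySequence.mono_homologyMap_mor₁_iff T hT i (i + 1) rfl).1 hm)
  · intro h
    have he : ∀ i, n ≤ i → Epi ((homologyFunctor C i).map T.mor₁) := fun i hi =>
      (HomologySequence.epi_homologyMap_mor₁_iff T hT i).2 ((h i hi).eq_of_tgt _ _)
    refine ⟨fun i hi => ?_, he n le_rfl⟩
    haveI := he i hi.le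
    haveI : Mono ((homologyFunctor C i).map T.mor₁) :=
      (HomologySequence.mono_homologyMap_mor₁_iff T hT (i - 1) i (by omega)).2
        ((h (i - 1) (by omega)).eq_of_src _ _)
    exact isIso_of_mono_of_epi _

end Derived

attribute [local instance] HasDerivedCategory.standard in
lemma nqis_iff_cone {E F : CochainComplex C ℤ} (u : E ⟶ F) (n : ℤ) :
    NQis n u ↔ ∀ i, n ≤ i → IsZero ((CochainComplex.mappingCone u).homology i) := by
  have h := niso_iff_of_distTriang (DerivedCategory.mappingCone_triangle_distinguished u) n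
  have h3 : ∀ i, IsZero ((DerivedCategory.homologyFunctor C i).obj
      (DerivedCategory.Q.obj (CochainComplex.mappingCone u))) ↔
      IsZero ((CochainComplex.mappingCone u).homology i) := fun i => isZero_H_iff _ i
  constructor
  · intro hu i hi
    exact (h3 i).1 (h.1 ⟨fun j hj => (isIso_H_iff u j).2 (hu.1 j hj), (epi_H_iff u n).2 hu.2⟩ i hi)
  · intro hc
    obtain ⟨h1, h2⟩ := h.2 fun i hi => (h3 i).2 (hc i hi)
    exact ⟨fun j hj => (isIso_H_iff u j).1 (h1 j hj), (epi_H_iff u n).1 h2⟩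

attribute [local instance] HasDerivedCategory.standard in
lemma nqis_iff_of_shortExact {S : ShortComplex (CochainComplex C ℤ)} (hS : S.ShortExact) (n : ℤ) :
    NQis n S.f ↔ ∀ i, n ≤ i → IsZero (S.X₃.homology i) := by
  have h := niso_iff_of_distTriang (DerivedCategory.triangleOfSES_distinguished hS) n
  have h3 : ∀ i, IsZero ((DerivedCategory.homologyFunctor C i).obj (DerivedCategory.Q.obj S.X₃)) ↔
      IsZero (S.X₃.homology i) := fun i => isZero_H_iff _ i
  constructor
  · intro hu i hi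
    exact (h3 i).1 (h.1 ⟨fun j hj => (isIso_H_iff S.f j).2 (hu.1 j hj), (epi_H_iff S.f n).2 hu.2⟩ i hi)
  · intro hc
    obtain ⟨h1, h2⟩ := h.2 fun i hi => (h3 i).2 (hc i hi)
    exact ⟨fun j hj => (isIso_H_iff S.f j).1 (h1 j hj), (epi_H_iff S.f n).1 h2⟩

lemma quasiIso_iff_homologyMap {E F : CochainComplex C ℤ} (u : E ⟶ F) :
    QuasiIso u ↔ ∀ i, IsIso (HomologicalComplex.homologyMap u i) := by
  simp only [quasiIso_iff, quasiIsoAt_iff_isIso_homologyMap]

lemma quasiIso_iff_nqis {E F : CochainComplex C ℤ} (u : E ⟶ F) : QuasiIso u ↔ ∀ n, NQis n u := by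
  rw [quasiIso_iff_homologyMap]
  exact ⟨fun h n => ⟨fun i _ => h i, by haveI := h n; infer_instance⟩, fun h i => (h (i - 1)).1 i (by omega)⟩

/-! ### Objects of finite type -/

variable {P}

lemma isOfFiniteType_of_mem {X : C} (h : P X) : PCoh.IsOfFiniteType P X := ⟨X, 𝟙 X, h, inferInstance⟩

lemma isOfFiniteType_of_isZero [P.IsClosedUnderIsomorphisms] [P.ContainsZero] {X : C} (h : IsZero X) :
    PCoh.IsOfFiniteType P X := isOfFiniteType_of_mem (mem_of_isZero h)

lemma isOfFiniteType_of_epi {X Y : C} (f : X ⟶ Y) [Epi f] (h : PCoh.IsOfFiniteType P X) :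
    PCoh.IsOfFiniteType P Y := by
  obtain ⟨E, π, hE, hπ⟩ := h
  exact ⟨E, π ≫ f, hE, epi_comp _ _⟩

lemma isOfFiniteType_of_iso {X Y : C} (e : X ≅ Y) (h : PCoh.IsOfFiniteType P X) : PCoh.IsOfFiniteType P Y :=
  isOfFiniteType_of_epi e.hom h

end Groth.Agent.PCohH7
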