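import Groth.Agent.PCohH7.Basic

/-! Objects of finite type and precoherent objects. -/

set_option autoImplicit false
set_option backward.isDefEq.respectTransparency false

universe v u

open CategoryTheory CategoryTheory.Limits

noncomputable section

namespace Groth.Agent.PCohH7

variable {C : Type u} [Category.{v} C] [Abelian C] {P : ObjectProperty C}

/-- Precoherence: maps from objects of the subcategory have kernels of finite type. -/
abbrev PreCoh (P : ObjectProperty C) (X : C) : Prop :=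
  ∀ (E : C) (u : E ⟶ X), P E → PCoh.IsOfFiniteType P (kernel u)

lemma ft_kernel_of_comp {A B X : C} (π : A ⟶ B) [Epi π] (w : A ⟶ X) (v : B ⟶ X) (h : π ≫ v = w)
    (hw : PCoh.IsOfFiniteType P (kernel w)) : PCoh.IsOfFiniteType P (kernel v) := by
  subst h
  haveI : Epi (kernel.map (π ≫ v) v π (𝟙 X) (by simp)) := by
    rw [epi_iff_surjective_up_to_refinements]
    intro T y
    obtain ⟨T', p, hp, x, hx⟩ := surjective_up_to_refinements_of_epi π (y ≫ kernel.ι v)
    refine ⟨T', p, hp, kernel.lift _ x (by rw [← Category.assoc, ← hx]; simp), ?_⟩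
    rw [← cancel_mono (kernel.ι v)]
    simp [hx]
  exact isOfFiniteType_of_epi (kernel.map (π ≫ v) v π (𝟙 X) (Category.comp_id _)) hw

lemma ft_of_exact_epi [P.IsClosedUnderIsomorphisms] (hsum : ∀ X Y : C, P X → P Y → P (X ⨯ Y))
    (hql : PCoh.IsQuasiLiftable P) (S : ShortComplex C) (hS : S.Exact) [Epi S.g]
    (h₁ : PCoh.IsOfFiniteType P S.X₁) (h₃ : PCoh.IsOfFiniteType P S.X₃) : PCoh.IsOfFiniteType P S.X₂ := by
  obtain ⟨E₁, π₁, hE₁, hπ₁⟩ := h₁
  obtain ⟨E₃, π₃, hE₃, hπ₃⟩ := h₃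
  obtain ⟨F, v, hF, hv⟩ := hql _ _ (pullback.snd S.g π₃) inferInstance hE₃
  refine ⟨E₁ ⊞ F, biprod.desc (π₁ ≫ S.f) (v ≫ pullback.fst S.g π₃), biprod_mem hsum hE₁ hF,
    Preadditive.epi_of_cancel_zero _ fun {T} h hh => ?_⟩
  have h1 := congrArg (biprod.inl ≫ ·) hh
  have h2 := congrArg (biprod.inr ≫ ·) hh
  simp only [biprod.inl_desc_assoc, biprod.inr_desc_assoc, comp_zero, Category.assoc] at h1 h2
  have h1' : S.f ≫ h = 0 := zero_of_epi_comp π₁ h1
  have hd : S.g ≫ hS.desc h h1' = h := hS.g_desc _ _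
  rw [← hd, pullback.condition_assoc] at h2
  have h3 : hS.desc h h1' = 0 :=
    zero_of_epi_comp π₃ (zero_of_epi_comp (v ≫ pullback.snd S.g π₃) (by simpa using h2))
  rw [← hd, h3, comp_zero]

lemma ft_of_mono (S : ShortComplex C) (hS : S.Exact) (hf : Mono S.f) (h₂ : PCoh.IsOfFiniteType P S.X₂)
    (h₃ : PreCoh P S.X₃) : PCoh.IsOfFiniteType P S.X₁ := by
  obtain ⟨E, π, hE, hπ⟩ := h₂
  haveI := hπ
  haveI := hf
  exact isOfFiniteType_of_iso
    (IsLimit.conePointUniqueUpToIso (kernelIsKernel S.g) hS.fIsKernel)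
    (ft_kernel_of_comp π _ S.g rfl (h₃ E (π ≫ S.g) hE))

lemma preCoh_of_mono {X Y : C} (f : X ⟶ Y) [Mono f] (h : PreCoh P Y) : PreCoh P X := fun E u hE =>
  isOfFiniteType_of_iso (kernelCompMono u f) (h E (u ≫ f) hE)

lemma preCoh_of_iso {X Y : C} (e : X ≅ Y) (h : PreCoh P X) : PreCoh P Y := preCoh_of_mono e.inv h

lemma preCoh_middle (S : ShortComplex C) (hS : S.Exact) (hf : Mono S.f) (h₁ : PreCoh P S.X₁)
    (h₃ : PreCoh P S.X₃) : PreCoh P S.X₂ := fun E u hE => by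
  haveI := hf
  obtain ⟨E', π, hE', hπ⟩ := h₃ E (u ≫ S.g) hE
  haveI := hπ
  have hw : (π ≫ kernel.ι (u ≫ S.g) ≫ u) ≫ S.g = 0 := by simp
  let w := hS.lift (π ≫ kernel.ι (u ≫ S.g) ≫ u) hw
  have hw' : w ≫ S.f = π ≫ kernel.ι (u ≫ S.g) ≫ u := hS.lift_f _ _
  have h := ft_kernel_of_comp π (π ≫ kernel.ι (u ≫ S.g) ≫ u) (kernel.ι (u ≫ S.g) ≫ u) rfl
    (by rw [← hw']; exact isOfFiniteType_of_iso (kernelCompMono w S.f).symm (h₁ E' w hE'))
  -- the kernel of `u` is the kernel of its restriction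
  refine isOfFiniteType_of_iso ?_ h
  exact
    { hom := kernel.lift u (kernel.ι _ ≫ kernel.ι _) (by simp)
      inv := kernel.lift _ (kernel.lift _ (kernel.ι u) (by simp)) (by simp)
      hom_inv_id := by ext; simp
      inv_hom_id := by ext; simp }

lemma preCoh_cokernel [P.IsClosedUnderIsomorphisms] (hsum : ∀ X Y : C, P X → P Y → P (X ⨯ Y))
    (hql : PCoh.IsQuasiLiftable P) (S : ShortComplex C) (hS : S.Exact) [Epi S.g]
    (h₁ : PCoh.IsOfFiniteType P S.X₁) (h₂ : PreCoh P S.X₂) : PreCoh P S.X₃ := fun E u hE => by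
  obtain ⟨E₁, π₁, hE₁, hπ₁⟩ := h₁
  obtain ⟨E', v, hE', hv⟩ := hql _ _ (pullback.fst u S.g) inferInstance hE
  haveI := hv
  let w := v ≫ pullback.snd u S.g
  have hw : (v ≫ pullback.fst u S.g) ≫ u = w ≫ S.g := by simp [w, pullback.condition]
  refine ft_kernel_of_comp (v ≫ pullback.fst u S.g) _ u hw ?_
  let d : E₁ ⊞ E' ⟶ S.X₂ := biprod.desc (π₁ ≫ S.f) w
  let p : kernel d ⟶ kernel (w ≫ S.g) := kernel.lift _ (kernel.ι d ≫ biprod.snd) (by
    have h := congrArg (· ≫ S.g) (kernel.condition d)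
    simp only [d, biprod.desc_eq, Category.assoc, Preadditive.comp_add, Preadditive.add_comp, S.zero, comp_zero,
      zero_add, zero_comp] at h
    simpa using h)
  haveI : Epi p := by
    rw [epi_iff_surjective_up_to_refinements]
    intro T y
    obtain ⟨T₁, p₁, hp₁, x₁, hx₁⟩ := hS.exact_up_to_refinements (y ≫ kernel.ι _ ≫ w) (by simp)
    obtain ⟨T₂, p₂, hp₂, x₂, hx₂⟩ := surjective_up_to_refinements_of_epi π₁ x₁
    haveI := hp₁
    haveI := hp₂
    refine ⟨T₂, p₂ ≫ p₁, epi_comp _ _,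
      kernel.lift _ (biprod.lift (-x₂) (p₂ ≫ p₁ ≫ y ≫ kernel.ι _)) ?_, ?_⟩
    · simp only [d, biprod.lift_desc, Preadditive.neg_comp, Category.assoc]
      rw [hx₁, reassoc_of% hx₂]
      simp
    · rw [← cancel_mono (kernel.ι (w ≫ S.g))]
      simp [p]
  exact isOfFiniteType_of_epi p (h₂ (E₁ ⊞ E') d (biprod_mem hsum hE₁ hE'))

/-- If the objects of the subcategory are coherent, it is quasi-stable under kernels of epimorphisms. -/
lemma quasiStable_of_coherent [P.IsClosedUnderIsomorphisms]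
    (hcoh : ∀ (X E : C) (u : E ⟶ X), P X → P E → PCoh.IsOfFiniteType P (kernel u)) :
    PCoh.IsQuasiStableUnderKernels P := fun K hK _ hP => by
  have h0 := hK 0
  rw [K.exactAt_iff' 0 0 1 (by simp) (by simp), ShortComplex.exact_iff_mono _ (K.shape 0 0 (by simp))] at h0
  have h1 := hK 1
  rw [K.exactAt_iff' 0 1 2 (by simp) (by simp)] at h1
  haveI : Mono (K.sc' 0 1 2).f := h0
  exact isOfFiniteType_of_iso (IsLimit.conePointUniqueUpToIso (kernelIsKernel _) h1.fIsKernel)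
    (hcoh (K.X 2) (K.X 1) (K.d 1 2) (hP 2 (by omega)) (hP 1 le_rfl))

end Groth.Agent.PCohH7
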