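import Groth.Agent.PCohH7.Terms
import Mathlib.Algebra.Homology.Embedding.ExtendHomology

/-! Intermediate subcategories. -/

set_option autoImplicit false
set_option backward.isDefEq.respectTransparency false

universe w v u

open CategoryTheory CategoryTheory.Limits HomologicalComplex

noncomputable section

namespace Groth.Agent.PCohH7

variable {C : Type u} [Category.{v} C] [Abelian C] [HasDerivedCategory.{w} C]
  {P : ObjectProperty C} [P.IsClosedUnderIsomorphisms] [P.ContainsZero]

lemma ft_of_pcn_single (hqs : PCoh.IsQuasiStableUnderKernels P) {X : C}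
    (h : PCn P 0 ((DerivedCategory.singleFunctor C 0).obj X)) : PCoh.IsOfFiniteType P X :=
  isOfFiniteType_of_iso
    (((DerivedCategory.homologyFunctor C 0).mapIso ((DerivedCategory.singleFunctorIsoCompQ C 0).app X)) ≪≫
      (DerivedCategory.homologyFunctorFactors C 0).app _ ≪≫ singleObjHomologySelfIso (ComplexShape.up ℤ) 0 X)
    (ft_H hqs h fun i hi => DerivedCategory.isZero_of_isLE _ 0 i hi)

/-- The first term of a finite exact sequence with pseudo-coherent higher terms is of finite type. -/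
lemma ft_first (hsum : ∀ X Y : C, P X → P Y → P (X ⨯ Y)) (hqs : PCoh.IsQuasiStableUnderKernels P)
    (hql : PCoh.IsQuasiLiftable P) (K : CochainComplex C ℕ) (hK : ∀ i, K.ExactAt i) (N : ℕ)
    (hN : ∀ i, N < i → IsZero (K.X i))
    (hpc : ∀ i, 1 ≤ i → PCoh.IsPC P ((DerivedCategory.singleFunctor C 0).obj (K.X i))) :
    PCoh.IsOfFiniteType P (K.X 0) := by
  let e := ComplexShape.embeddingUpNat
  let L : CochainComplex C ℤ := K.extend e
  have hneg : ∀ j : ℤ, j < 0 → IsZero (L.X j) := fun j hj =>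
    K.isZero_extend_X e j fun i => by simp [e]; omega
  let eX : ∀ i : ℕ, L.X (i : ℤ) ≅ K.X i := fun i => K.extendXIso e (i := i) (by simp [e])
  have hex : ∀ j, L.ExactAt j := fun j => by
    by_cases hj : j < 0
    · exact ExactAt.of_isZero (hneg j hj)
    · obtain ⟨i, rfl⟩ := Int.eq_ofNat_of_zero_le (by omega : 0 ≤ j)
      exact (K.extend_exactAt_iff e (by simp [e])).2 (hK i)
  let f : L ⟶ (HomologicalComplex.single C (ComplexShape.up ℤ) 0).obj (K.X 0) :=
    mkHomToSingle (eX 0).hom (fun i (hi : i + 1 = 0) => (hneg i (by omega)).eq_of_src _ _)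
  haveI : ∀ j, Epi (f.f j) := fun j => by
    rcases eq_or_ne j 0 with rfl | hj
    · rw [mkHomToSingle_f]
      infer_instance
    · exact ⟨fun g g' _ => (isZero_single_obj_X (ComplexShape.up ℤ) _ _ _ hj).eq_of_src g g'⟩
  haveI : Epi f := HomologicalComplex.epi_of_epi_f _ inferInstance
  let S : ShortComplex (CochainComplex C ℤ) := ShortComplex.mk (kernel.ι f) f (kernel.condition f)
  have hS : S.ShortExact := { exact := S.exact_of_f_is_kernel (kernelIsKernel f) }
  have hev : ∀ j, (S.map (HomologicalComplex.eval C (ComplexShape.up ℤ) j)).ShortExact :=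
    fun j => hS.map_of_exact _
  have hz : ∀ j, j ≤ 0 → IsZero (S.X₁.X j) := fun j hj => by
    rcases eq_or_lt_of_le hj with rfl | hj'
    · refine (hev 0).isIso_g_iff.1 ?_
      show IsIso (f.f 0)
      rw [mkHomToSingle_f]
      infer_instance
    · haveI := (hev j).mono_f
      exact IsZero.of_mono (S.map (HomologicalComplex.eval C (ComplexShape.up ℤ) j)).f (hneg j hj')
  have hiso : ∀ i : ℕ, 1 ≤ i → Nonempty (S.X₁.X (i : ℤ) ≅ K.X i) := fun i hi => by
    haveI : IsIso (S.f.f (i : ℤ)) :=
      (hev (i : ℤ)).isIso_f_iff.2 (isZero_single_obj_X (ComplexShape.up ℤ) _ _ _ (by omega))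
    exact ⟨asIso (S.f.f (i : ℤ)) ≪≫ eX i⟩
  have h1 : PCn P 1 (DerivedCategory.Q.obj S.X₁) := pcn_of_terms hsum hqs hql 1 S.X₁ N (fun j hj => by
      obtain ⟨i, rfl⟩ := Int.eq_ofNat_of_zero_le (by omega : 0 ≤ j)
      obtain ⟨e'⟩ := hiso i (by omega)
      exact (hN i (by omega)).of_iso e') (fun j hj => by
      obtain ⟨i, rfl⟩ := Int.eq_ofNat_of_zero_le (by omega : 0 ≤ j)
      obtain ⟨e'⟩ := hiso i (by omega)
      exact PCn.of_iso (hpc i (by omega) (1 - (i : ℤ))) ((DerivedCategory.singleFunctor C 0).mapIso e'.symm))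
  have h2 : PCn P 0 (DerivedCategory.Q.obj L) := pcn_of_isZero_H _ fun j _ =>
    (isZero_H_iff L j).2 (hex j).isZero_homology
  exact ft_of_pcn_single hqs ((pcn_obj₃ hsum hqs hql (DerivedCategory.triangleOfSES_distinguished hS) h1 h2).of_iso
    ((DerivedCategory.singleFunctorIsoCompQ C 0).app _).symm)

end Groth.Agent.PCohH7
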