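import Groth.Agent.PCohH7.Terms
import Groth.Agent.PCohH7.Intermediate

/-! Finite presentation of an object and pseudo-coherence. -/

set_option autoImplicit false
set_option backward.isDefEq.respectTransparency false

universe w v u

open CategoryTheory CategoryTheory.Limits HomologicalComplex

noncomputable section

namespace Groth.Agent.PCohH7

variable {C : Type u} [Category.{v} C] [Abelian C] [HasDerivedCategory.{w} C]
  {P : ObjectProperty C} [P.IsClosedUnderIsomorphisms] [P.ContainsZero]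

/-- A finite resolution gives pseudo-coherence. -/
theorem pcn_of_presentation (hsum : ∀ X Y : C, P X → P Y → P (X ⨯ Y)) (hqs : PCoh.IsQuasiStableUnderKernels P)
    (hql : PCoh.IsQuasiLiftable P) (n : ℕ) (K : ChainComplex C ℕ) (hK : ∀ j, j ≤ n → K.ExactAt j)
    (hz : ∀ j, n + 1 < j → IsZero (K.X j)) (hP : ∀ j, 1 ≤ j → j ≤ n + 1 → P (K.X j)) :
    PCn P (-(n : ℤ)) ((DerivedCategory.singleFunctor C 0).obj (K.X 0)) := by
  let e := ComplexShape.embeddingDownNat
  let L : CochainComplex C ℤ := K.extend e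
  let eX : ∀ i : ℕ, L.X (-(i : ℤ)) ≅ K.X i := fun i => K.extendXIso e (i := i) (by simp [e])
  have hpos : ∀ j : ℤ, 0 < j → IsZero (L.X j) := fun j hj =>
    K.isZero_extend_X e j fun i => by simp [e]; omega
  let e0 : L.X 0 ≅ K.X 0 := K.extendXIso e (i := 0) (by simp [e])
  let f : (HomologicalComplex.single C (ComplexShape.up ℤ) 0).obj (K.X 0) ⟶ L :=
    mkHomFromSingle e0.inv (fun i (hi : 0 + 1 = i) => (hpos i (by omega)).eq_of_tgt _ _)
  haveI : ∀ j, Mono (f.f j) := fun j => by
    rcases eq_or_ne j 0 with rfl | hj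
    · rw [mkHomFromSingle_f]
      infer_instance
    · exact ⟨fun g g' _ => (isZero_single_obj_X (ComplexShape.up ℤ) _ _ _ hj).eq_of_tgt g g'⟩
  haveI : Mono f := HomologicalComplex.mono_of_mono_f _ inferInstance
  let S : ShortComplex (CochainComplex C ℤ) := ShortComplex.mk f (cokernel.π f) (cokernel.condition f)
  have hS : S.ShortExact := { exact := S.exact_of_g_is_cokernel (cokernelIsCokernel f) }
  have hev : ∀ j, (S.map (HomologicalComplex.eval C (ComplexShape.up ℤ) j)).ShortExact :=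
    fun j => hS.map_of_exact _
  have hnn : ∀ j : ℤ, 0 ≤ j → IsZero (S.X₃.X j) := fun j hj => by
    rcases eq_or_lt_of_le hj with rfl | hj'
    · refine (hev 0).isIso_f_iff.1 ?_
      show IsIso (f.f 0)
      rw [mkHomFromSingle_f]
      infer_instance
    · haveI := (hev j).epi_g
      exact IsZero.of_epi (S.map (HomologicalComplex.eval C (ComplexShape.up ℤ) j)).g (hpos j hj')
  have hmem : ∀ j : ℤ, P (S.X₃.X j) := fun j => by
    by_cases hj : 0 ≤ j
    · exact mem_of_isZero (hnn j hj)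
    obtain ⟨i, rfl⟩ : ∃ i : ℕ, j = -(i : ℤ) := ⟨(-j).toNat, by omega⟩
    haveI : IsIso (S.g.f (-(i : ℤ))) :=
      (hev _).isIso_g_iff.2 (isZero_single_obj_X (ComplexShape.up ℤ) _ _ _ (by omega))
    refine P.prop_of_iso (asIso (S.g.f (-(i : ℤ)))) (P.prop_of_iso (eX i).symm ?_)
    by_cases hi : i ≤ n + 1
    · exact hP i (by omega) hi
    · exact mem_of_isZero (hz i (by omega))
  have h3 : PCn P (-(n : ℤ) - 1) (DerivedCategory.Q.obj S.X₃) :=
    pcn_Q ⟨⟨0, fun j hj => hnn j hj.le⟩, fun j _ => hmem j⟩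
  have h2 : PCn P (-(n : ℤ) - 1 + 1) (DerivedCategory.Q.obj L) := pcn_of_isZero_H _ fun j hj => by
    refine (isZero_H_iff L j).2 ?_
    by_cases hj' : 0 < j
    · exact isZero_homology_of_isZero (hpos j hj')
    · obtain ⟨i, rfl⟩ : ∃ i : ℕ, j = -(i : ℤ) := ⟨(-j).toNat, by omega⟩
      exact ((K.extend_exactAt_iff e (by simp [e])).2 (hK i (by omega))).isZero_homology
  exact ((pcn_obj₁ hsum hqs hql (DerivedCategory.triangleOfSES_distinguished hS) h2 h3).mono (by omega)).of_iso
    ((DerivedCategory.singleFunctorIsoCompQ C 0).app _).symm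

/-- Pseudo-coherence gives a finite resolution. -/
theorem exists_presentation (hsum : ∀ X Y : C, P X → P Y → P (X ⨯ Y)) (hqs : PCoh.IsQuasiStableUnderKernels P)
    (hql : PCoh.IsQuasiLiftable P) (F : C) (n : ℕ)
    (h : PCn P (-(n : ℤ)) ((DerivedCategory.singleFunctor C 0).obj F)) :
    ∃ K : ChainComplex C ℕ, Nonempty (K.X 0 ≅ F) ∧ (∀ j : ℕ, j ≤ n → K.ExactAt j) ∧
      (∀ j : ℕ, n + 1 < j → IsZero (K.X j)) ∧ (∀ j : ℕ, 1 ≤ j → j ≤ n + 1 → P (K.X j)) := by
  let G : CochainComplex C ℤ := (HomologicalComplex.single C (ComplexShape.up ℤ) 0).obj F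
  have hG : PCn P (-(n : ℤ)) (DerivedCategory.Q.obj G) :=
    h.of_iso ((DerivedCategory.singleFunctorIsoCompQ C 0).app F)
  obtain ⟨E, u, hEP, hEz, hu⟩ := exists_perfect_approx hsum hql (show -(n : ℤ) ≤ 1 by omega) G
    (fun j hj => isZero_homology_of_isZero (isZero_single_obj_X (ComplexShape.up ℤ) _ _ _ (by omega)))
    (fun k E' u' hk _ hu hE => ft_cone_of_strict hsum hqs hql hk u' hu hE hG)
  let M := CochainComplex.mappingCone u
  let e := ComplexShape.embeddingDownNat
  have hMz : ∀ j : ℤ, j < -(n : ℤ) - 1 ∨ 0 < j → IsZero (M.X j) := fun j hj => by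
    rw [CochainComplex.mappingCone.isZero_X_iff]
    exact ⟨hEz _ (by omega), isZero_single_obj_X (ComplexShape.up ℤ) _ _ _ (by omega)⟩
  have hMex : ∀ j : ℤ, -(n : ℤ) ≤ j → M.ExactAt j := fun j hj =>
    (exactAt_iff_isZero_homology _ _).2 ((nqis_iff_cone u _).1 hu j hj)
  refine ⟨M.restriction e, ⟨M.restrictionXIso e (i := 0) (i' := 0) (by simp [e]) ≪≫ ?_⟩, fun j hj => ?_,
    fun j hj => ?_, fun j hj hj' => ?_⟩
  · haveI : IsIso ((CochainComplex.mappingCone.inr u).f 0) :=
      ⟨⟨(CochainComplex.mappingCone.snd u).v 0 0 (add_zero 0), CochainComplex.mappingCone.inr_f_snd_v u 0, by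
        rw [CochainComplex.mappingCone.ext_from_iff u 1 0 (by norm_num)]
        exact ⟨(hEz 1 (Or.inr le_rfl)).eq_of_src _ _, by simp⟩⟩⟩
    exact (asIso ((CochainComplex.mappingCone.inr u).f 0)).symm ≪≫
      singleObjXSelf (ComplexShape.up ℤ) 0 F
  · rcases j with _ | j
    · rw [(M.restriction e).exactAt_iff' 1 0 0 (by simp) (by simp), ShortComplex.exact_iff_epi _ ((M.restriction e).shape 0 0 (by simp))]
      have hM0 := hMex 0 (by omega)
      rw [M.exactAt_iff' (-1) 0 1 (by simp) (by simp)] at hM0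
      have := (ShortComplex.exact_iff_epi _ ((hMz 1 (Or.inr one_pos)).eq_of_tgt _ _)).1 hM0
      show Epi ((M.restriction e).d 1 0)
      haveI : Epi (M.d (-1) 0) := this
      rw [M.restriction_d_eq e (i := 1) (j := 0) (i' := -1) (j' := 0) (by simp [e]) (by simp [e])]
      infer_instance
    · have hM := hMex (-((j + 1 : ℕ) : ℤ)) (by omega)
      rw [M.exactAt_iff' (-((j + 2 : ℕ) : ℤ)) (-((j + 1 : ℕ) : ℤ)) (-(j : ℤ)) (by simp; omega) (by simp)] at hM
      rw [(M.restriction e).exactAt_iff' (j + 2) (j + 1) j (by simp) (by simp)]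
      refine (ShortComplex.exact_iff_of_iso (ShortComplex.isoMk (M.restrictionXIso e rfl) (M.restrictionXIso e rfl)
        (M.restrictionXIso e rfl) ?_ ?_)).2 hM
      · show (M.restrictionXIso e rfl).hom ≫ M.d _ _ = (M.restriction e).d (j + 2) (j + 1) ≫ _
        rw [M.restriction_d_eq e rfl rfl]
        simp
        rfl
      · show (M.restrictionXIso e rfl).hom ≫ M.d _ _ = (M.restriction e).d (j + 1) j ≫ _
        rw [M.restriction_d_eq e rfl rfl]
        simp
        rfl
  · exact (hMz (-(j : ℤ)) (Or.inl (by omega))).of_iso (M.restrictionXIso e (i := j) (by simp [e]))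
  · refine P.prop_of_iso (M.restrictionXIso e (i := j) (i' := -(j : ℤ)) (by simp [e])).symm
      (cone_mem hsum u _ (hEP _) (mem_of_isZero (isZero_single_obj_X (ComplexShape.up ℤ) _ _ _ (by omega))))

end Groth.Agent.PCohH7
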