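import Groth.Agent.PCohH7.Approx
import Mathlib.CategoryTheory.Functor.OfSequence
import Mathlib.CategoryTheory.Limits.Constructions.EventuallyConstant
import Mathlib.Algebra.Homology.HomologicalComplexLimits

/-! Strictly pseudo-coherent resolutions, by infinitely many modifications. -/

set_option autoImplicit false
set_option backward.isDefEq.respectTransparency false

universe w v u

open CategoryTheory CategoryTheory.Limits CochainComplex HomologicalComplex Pretriangulated
open scoped ZeroObject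

noncomputable section

namespace Groth.Agent.PCohH7

variable {C : Type u} [Category.{v} C] [Abelian C] [HasDerivedCategory.{w} C] {P : ObjectProperty C}
  [P.IsClosedUnderIsomorphisms] [P.ContainsZero]

open DerivedCategory

/-- A stage of the resolution. -/
structure Stage (P : ObjectProperty C) (F : CochainComplex C ℤ) (n : ℤ) (k : ℕ) where
  /-- the complex -/
  G : CochainComplex C ℤ
  /-- the map to the target -/
  u : G ⟶ F
  all : PCoh.IsStrictPCAll P G
  nqis : NQis (n - k) u

/-- Completion of an `n`-quasi-isomorphism from a strictly pseudo-coherent complex. -/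
theorem exists_complete (hsum : ∀ X Y : C, P X → P Y → P (X ⨯ Y)) (hqs : PCoh.IsQuasiStableUnderKernels P)
    (hql : PCoh.IsQuasiLiftable P) (n : ℤ) (E F : CochainComplex C ℤ) (hE : PCoh.IsStrictPCAll P E)
    (hF : PCoh.IsPC P (Q.obj F)) (u : E ⟶ F) (hu : NQis n u) :
    ∃ (E' : CochainComplex C ℤ) (v : E ⟶ E') (u' : E' ⟶ F), v ≫ u' = u ∧ PCoh.IsStrictPCAll P E' ∧ QuasiIso u' ∧
      (∀ j : ℤ, Mono (v.f j)) ∧ (∀ j : ℤ, n ≤ j → IsIso (v.f j)) := by
  have step : ∀ (k : ℕ) (x : Stage P F n k), ∃ (y : Stage P F n (k + 1)) (v : x.G ⟶ y.G), v ≫ y.u = x.u ∧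
      ∀ j, Mono (v.f j) ∧ (n - k ≤ j → IsIso (v.f j)) := fun k x => by
    obtain ⟨⟨b, hb⟩, hP⟩ := x.all
    have hk : n - (k : ℤ) = (n - ((k + 1 : ℕ) : ℤ)) + 1 := by omega
    have hx := x.nqis
    rw [hk] at hx
    obtain ⟨G, v, u', h1, h2, h3, -, h5, h6⟩ := modify hsum hql _ x.u hx
      (ft_cone_of_strict hsum hqs hql le_rfl x.u hx ⟨⟨b, hb⟩, fun j _ => hP j⟩ (hF _))
    refine ⟨⟨G, u', ⟨⟨max b n, fun j hj => ?_⟩, fun j => h5 j (hP j)⟩, h6⟩, v, h1,
      fun j => ⟨h2 j, fun hj => h3 j (by omega)⟩⟩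
    haveI := h3 j (by omega)
    exact (hb j (by omega)).of_iso (asIso (v.f j)).symm
  choose nxt vnxt hvnxt hvj using step
  let x : ∀ k, Stage P F n k := fun k => Nat.rec ⟨E, u, hE, by simpa using hu⟩ (fun k y => nxt k y) k
  let f : ∀ k, (x k).G ⟶ (x (k + 1)).G := fun k => vnxt k (x k)
  have hfu : ∀ k, f k ≫ (x (k + 1)).u = (x k).u := fun k => hvnxt k (x k)
  have hfj : ∀ k j, Mono ((f k).f j) ∧ (n - k ≤ j → IsIso ((f k).f j)) := fun k => hvj k (x k)
  let S := Functor.ofSequence f
  have hmap : ∀ (k l : ℕ) (h : k ≤ l) (j : ℤ),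
      Mono ((S.map (homOfLE h)).f j) ∧ (n - k ≤ j → IsIso ((S.map (homOfLE h)).f j)) := fun k l h j => by
    induction l, h using Nat.le_induction with
    | base =>
      rw [show homOfLE (le_refl k) = 𝟙 k from Subsingleton.elim _ _, S.map_id, id_f]
      exact ⟨inferInstance, fun _ => inferInstance⟩
    | succ l hl ih =>
      rw [← homOfLE_comp hl (Nat.le_add_right l 1), S.map_comp, comp_f, Functor.ofSequence_map_homOfLE_succ]
      obtain ⟨i1, i2⟩ := ih
      obtain ⟨j1, j2⟩ := hfj l j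
      haveI := i1
      haveI := j1
      refine ⟨mono_comp _ _, fun hj => ?_⟩
      haveI := i2 hj
      haveI := j2 (by omega)
      infer_instance
  have hev : ∀ (j : ℤ) (k : ℕ), n - k ≤ j →
      (S ⋙ HomologicalComplex.eval C (ComplexShape.up ℤ) j).IsEventuallyConstantFrom k := fun j k hk l φ => by
    rw [show φ = homOfLE (leOfHom φ) from Subsingleton.elim _ _]
    exact (hmap k l _ j).2 hk
  haveI : ∀ j, HasColimit (S ⋙ HomologicalComplex.eval C (ComplexShape.up ℤ) j) := fun j =>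
    (hev j (n - j).toNat (by omega)).hasColimit
  have hι : ∀ (j : ℤ) (k : ℕ), n - k ≤ j → IsIso ((colimit.ι S k).f j) := fun j k hk =>
    (hev j k hk).isIso_ι_of_isColimit
      (isColimitOfPreserves (HomologicalComplex.eval C (ComplexShape.up ℤ) j) (colimit.isColimit S))
  let c : Cocone S := ⟨F, NatTrans.ofSequence (fun k => (x k).u) (fun k => by
    simp only [Functor.const_obj_map, Category.comp_id, Functor.ofSequence_map_homOfLE_succ, S]
    exact (hfu k).trans (Category.comp_id _).symm)⟩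
  let u' : colimit S ⟶ F := colimit.desc S c
  have hu' : ∀ k, colimit.ι S k ≫ u' = (x k).u := fun k => colimit.ι_desc c k
  refine ⟨colimit S, colimit.ι S 0, u', hu' 0, ⟨?_, fun j => ?_⟩, ?_, fun j => ?_, fun j hj => hι j 0 (by simpa using hj)⟩
  · obtain ⟨b, hb⟩ := hE.1
    refine ⟨max b n, fun j hj => ?_⟩
    haveI := hι j 0 (by omega)
    exact (hb j (by omega)).of_iso (asIso ((colimit.ι S 0).f j)).symm
  · haveI := hι j (n - j).toNat (by omega)
    exact P.prop_of_iso (asIso ((colimit.ι S (n - j).toNat).f j)) ((x (n - j).toNat).all.2 j)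
  · rw [quasiIso_iff_homologyMap]
    intro j
    let k : ℕ := (n - j + 1).toNat
    haveI := hι (j - 1) k (by omega)
    haveI := hι j k (by omega)
    haveI := hι (j + 1) k (by omega)
    haveI := isIso_homologyMap_of_isIso_f (colimit.ι S k) j inferInstance inferInstance inferInstance
    have h := (x k).nqis.1 j (by omega)
    rw [← hu' k, homologyMap_comp] at h
    exact IsIso.of_isIso_comp_left (homologyMap (colimit.ι S k) j) _
  · obtain ⟨i1, -⟩ := hmap 0 (n - j).toNat (Nat.zero_le _) j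
    haveI := hι j (n - j).toNat (by omega)
    haveI := i1
    rw [← colimit.w S (homOfLE (Nat.zero_le (n - j).toNat)), comp_f]
    infer_instance

/-- A pseudo-coherent object without cohomology in degrees `≥ m` receives a quasi-isomorphism from a strictly
pseudo-coherent complex vanishing there. -/
theorem exists_resolution (hsum : ∀ X Y : C, P X → P Y → P (X ⨯ Y)) (hqs : PCoh.IsQuasiStableUnderKernels P)
    (hql : PCoh.IsQuasiLiftable P) (m : ℤ) (F : CochainComplex C ℤ) (hF : PCoh.IsPC P (Q.obj F))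
    (hac : ∀ i, m ≤ i → IsZero (F.homology i)) :
    ∃ (E : CochainComplex C ℤ) (u : E ⟶ F), PCoh.IsStrictPCAll P E ∧ (∀ i, m ≤ i → IsZero (E.X i)) ∧ QuasiIso u := by
  have hX : ∀ j, IsZero ((0 : CochainComplex C ℤ).X j) := fun j =>
    (HomologicalComplex.eval C (ComplexShape.up ℤ) j).map_isZero (isZero_zero _)
  obtain ⟨E, v, u, -, h2, h3, -, h5⟩ := exists_complete hsum hqs hql m 0 F
    ⟨⟨m, fun j _ => hX j⟩, fun j => mem_of_isZero (hX j)⟩ hF 0 (nqis_from_zero F (isZero_zero _) hac _)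
  refine ⟨E, u, h2, fun i hi => ?_, h3⟩
  haveI := h5 i hi
  exact (hX i).of_iso (asIso (v.f i)).symm

/-- Every pseudo-coherent complex is strictly pseudo-coherent up to quasi-isomorphism. -/
theorem exists_resolution' (hsum : ∀ X Y : C, P X → P Y → P (X ⨯ Y)) (hqs : PCoh.IsQuasiStableUnderKernels P)
    (hql : PCoh.IsQuasiLiftable P) (F : CochainComplex C ℤ) (hF : PCoh.IsPC P (Q.obj F)) :
    ∃ (E : CochainComplex C ℤ) (u : E ⟶ F), PCoh.IsStrictPCAll P E ∧ QuasiIso u := by
  obtain ⟨i, -, hi⟩ := exists_bound (hF 0)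
  obtain ⟨E, u, h1, -, h3⟩ := exists_resolution hsum hqs hql i F hF hi
  exact ⟨E, u, h1, h3⟩

lemma isPC_of_quasiIso {E F : CochainComplex C ℤ} (hE : PCoh.IsStrictPCAll P E) (s : F ⟶ E) [QuasiIso s] :
    PCoh.IsPC P (Q.obj F) := fun _ => ⟨E, ⟨hE.1, fun i _ => hE.2 i⟩, ⟨(asIso (Q.map s)).symm⟩⟩

end Groth.Agent.PCohH7
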