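import Groth.Agent.PCohH7.Summand
import Groth.Agent.PCohH7.Infinite
import Mathlib.Algebra.Homology.DerivedCategory.KProjective
import Mathlib.Algebra.Homology.Embedding.ExtendHomology

/-! The liftable case: objects of the subcategory are projective. -/

set_option autoImplicit false
set_option backward.isDefEq.respectTransparency false

universe w v u

open CategoryTheory CategoryTheory.Limits CochainComplex HomologicalComplex Pretriangulated

noncomputable section

namespace Groth.Agent.PCohH7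

variable {C : Type u} [Category.{v} C] [Abelian C] {P : ObjectProperty C}

lemma projective_of_lift (hlift : ∀ (E F : C) (u : E ⟶ F), Epi u → P F → IsSplitEpi u) {X : C} (hX : P X) :
    Projective X where
  factors f e he := by
    haveI := hlift _ _ (pullback.snd e f) inferInstance hX
    exact ⟨section_ (pullback.snd e f) ≫ pullback.fst e f,
      by rw [Category.assoc, pullback.condition, IsSplitEpi.id_assoc]⟩

lemma quasiLiftable_of_lift (hlift : ∀ (E F : C) (u : E ⟶ F), Epi u → P F → IsSplitEpi u) :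
    PCoh.IsQuasiLiftable P := fun E F u hu hF => by
  haveI := hlift E F u hu hF
  exact ⟨F, section_ u, hF, by rw [IsSplitEpi.id]; infer_instance⟩

lemma epi_toCycles {E : CochainComplex C ℤ} (j i : ℤ) (h : j + 1 = i) (hex : E.ExactAt i) : Epi (E.toCycles j i) :=
  ((ShortComplex.mk (E.toCycles j i) (E.homologyπ i) (E.toCycles_comp_homologyπ _ _)).exact_iff_epi
    (hex.isZero_homology.eq_of_tgt _ _)).1
    (ShortComplex.exact_of_g_is_cokernel _ (E.homologyIsCokernel j i (by simp; omega)))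

variable [P.IsClosedUnderIsomorphisms] [P.ContainsZero]

/-- Cycles of complexes with terms in the subcategory, exact in high degrees. -/
lemma cycles_mem (hst : ∀ (E F : C) (u : E ⟶ F), Epi u → P E → P F → P (kernel u)) (E : CochainComplex C ℤ)
    (a b : ℤ) (hP : ∀ j, a ≤ j → P (E.X j)) (hb : ∀ j, b < j → IsZero (E.X j))
    (hex : ∀ j, a < j → E.ExactAt j) : ∀ j, a ≤ j → P (E.cycles j) := by
  suffices h : ∀ (d : ℕ) (j : ℤ), b + 1 - j ≤ d → a ≤ j → P (E.cycles j) from
    fun j hj => h (b + 1 - j).toNat j (by omega) hj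
  intro d
  induction d with
  | zero =>
    intro j hd _
    exact mem_of_isZero (IsZero.of_mono (E.iCycles j) (hb j (by omega)))
  | succ d ih =>
    intro j hd ha
    haveI := epi_toCycles (E := E) j (j + 1) rfl (hex (j + 1) (by omega))
    refine P.prop_of_iso ?_ (hst _ _ (E.toCycles j (j + 1)) inferInstance (hP j ha) (ih (j + 1) (by omega) (by omega)))
    exact (kernelCompMono (E.toCycles j (j + 1)) (E.iCycles (j + 1))).symm ≪≫
      kernelIsoOfEq (E.toCycles_i j (j + 1)) ≪≫
      IsLimit.conePointUniqueUpToIso (kernelIsKernel _) (E.cyclesIsKernel j (j + 1) (by simp))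

lemma quasiStable_of_lift (hst : ∀ (E F : C) (u : E ⟶ F), Epi u → P E → P F → P (kernel u)) :
    PCoh.IsQuasiStableUnderKernels P := fun K hK hfin hP => by
  obtain ⟨N, hN⟩ := hfin
  let e := ComplexShape.embeddingUpNat
  let L : CochainComplex C ℤ := K.extend e
  have hneg : ∀ j : ℤ, j < 0 → IsZero (L.X j) := fun j hj =>
    K.isZero_extend_X e j fun i => by simp [e]; omega
  let eX : ∀ i : ℕ, L.X (i : ℤ) ≅ K.X i := fun i => K.extendXIso e (i := i) (by simp [e])
  have hex : ∀ j, L.ExactAt j := fun j => by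
    by_cases hj : j < 0
    · exact ExactAt.of_isZero (hneg j hj)
    · obtain ⟨i, rfl⟩ := Int.eq_ofNat_of_zero_le (by omega : 0 ≤ j)
      exact (K.extend_exactAt_iff e (by simp [e])).2 (hK i)
  have hc : P (L.cycles 1) := cycles_mem hst L 1 N (fun j hj => by
      obtain ⟨i, rfl⟩ := Int.eq_ofNat_of_zero_le (by omega : 0 ≤ j)
      exact P.prop_of_iso (eX i).symm (hP i (by omega)))
    (fun j hj => by
      obtain ⟨i, rfl⟩ := Int.eq_ofNat_of_zero_le (by omega : 0 ≤ j)
      exact (hN i (by omega)).of_iso (eX i))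
    (fun j _ => hex j) 1 le_rfl
  haveI := epi_toCycles (E := L) 0 1 (by norm_num) (hex 1)
  haveI : Mono (L.d 0 1) := by
    have h := hex 0
    rw [L.exactAt_iff' (-1) 0 1 (by simp) (by simp)] at h
    exact h.mono_g ((hneg (-1) (by omega)).eq_of_src _ _)
  haveI : Mono (L.toCycles 0 1) := mono_of_mono_fac (L.toCycles_i 0 1)
  haveI := isIso_of_mono_of_epi (L.toCycles 0 1)
  exact isOfFiniteType_of_mem (P.prop_of_iso ((asIso (L.toCycles 0 1)).symm ≪≫ eX 0) hc)

lemma isKProjective_of_mem (hlift : ∀ (E F : C) (u : E ⟶ F), Epi u → P F → IsSplitEpi u)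
    {E : CochainComplex C ℤ} (hE : ∀ i, P (E.X i)) (b : ℤ) (hb : ∀ i, b < i → IsZero (E.X i)) :
    E.IsKProjective := by
  haveI : E.IsStrictlyLE b := (E.isStrictlyLE_iff b).2 hb
  haveI : ∀ n, Projective (E.X n) := fun n => projective_of_lift hlift (hE n)
  exact CochainComplex.isKProjective_of_projective E b

section Hom

variable [HasDerivedCategory.{w} C]

open DerivedCategory

omit [P.IsClosedUnderIsomorphisms] [P.ContainsZero] in
lemma exists_Q_map {E F : CochainComplex C ℤ} [E.IsKProjective] (α : Q.obj E ⟶ Q.obj F) :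
    ∃ f : E ⟶ F, Q.map f = α := by
  obtain ⟨φ, hφ⟩ := (CochainComplex.IsKProjective.Qh_map_bijective E
    ((HomotopyCategory.quotient _ _).obj F)).2 ((quotientCompQhIso C).hom.app E ≫ α ≫ (quotientCompQhIso C).inv.app F)
  obtain ⟨f, rfl⟩ := (HomotopyCategory.quotient _ _).map_surjective φ
  refine ⟨f, ?_⟩
  rw [← cancel_epi ((quotientCompQhIso C).hom.app E), ← quotientCompQhIso_hom_naturality, hφ]
  simp

omit [P.IsClosedUnderIsomorphisms] [P.ContainsZero] in
lemma nonempty_homotopy {E F : CochainComplex C ℤ} [E.IsKProjective] (f g : E ⟶ F) (h : Q.map f = Q.map g) :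
    Nonempty (Homotopy f g) := by
  refine ⟨HomotopyCategory.homotopyOfEq _ _ ((CochainComplex.IsKProjective.Qh_map_bijective E
    ((HomotopyCategory.quotient _ _).obj F)).1 ?_)⟩
  rw [← cancel_mono ((quotientCompQhIso C).hom.app F), quotientCompQhIso_hom_naturality,
    quotientCompQhIso_hom_naturality, h]

/-- Perfect complexes are stable under cones. -/
theorem perfect_obj₃ (hsum : ∀ X Y : C, P X → P Y → P (X ⨯ Y))
    (hlift : ∀ (E F : C) (u : E ⟶ F), Epi u → P F → IsSplitEpi u)
    (T : Triangle (DerivedCategory C)) (hT : T ∈ distinguishedTriangles)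
    (h₁ : ∃ (E : CochainComplex C ℤ) (a b : ℤ), (∀ i, i < a ∨ b < i → IsZero (E.X i)) ∧ (∀ i, P (E.X i)) ∧
      Nonempty (Q.obj E ≅ T.obj₁))
    (h₂ : ∃ (E : CochainComplex C ℤ) (a b : ℤ), (∀ i, i < a ∨ b < i → IsZero (E.X i)) ∧ (∀ i, P (E.X i)) ∧
      Nonempty (Q.obj E ≅ T.obj₂)) :
    ∃ (E : CochainComplex C ℤ) (a b : ℤ), (∀ i, i < a ∨ b < i → IsZero (E.X i)) ∧ (∀ i, P (E.X i)) ∧
      Nonempty (Q.obj E ≅ T.obj₃) := by
  obtain ⟨E, a, b, hE, hEP, ⟨e₁⟩⟩ := h₁
  obtain ⟨F, a', b', hF, hFP, ⟨e₂⟩⟩ := h₂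
  haveI := isKProjective_of_mem hlift hEP b fun i hi => hE i (Or.inr hi)
  obtain ⟨f, hf⟩ := exists_Q_map (e₁.hom ≫ T.mor₁ ≫ e₂.inv)
  have comm : Q.map f ≫ e₂.hom = e₁.hom ≫ T.mor₁ := by rw [hf]; simp
  let e := isoTriangleOfIso₁₂ (Q.mapTriangle.obj (mappingCone.triangle f)) T
    (DerivedCategory.mappingCone_triangle_distinguished _) hT e₁ e₂ comm
  refine ⟨mappingCone f, min (a - 1) a', max b b', fun i hi => ?_, fun i => cone_mem hsum f i (hEP _) (hFP _),
    ⟨Triangle.π₃.mapIso e⟩⟩
  rw [mappingCone.isZero_X_iff]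
  exact ⟨hE _ (by omega), hF _ (by omega)⟩

/-- Lowering the top degree of a strictly perfect complex. -/
theorem perfect_truncate (hst : ∀ (E F : C) (u : E ⟶ F), Epi u → P E → P F → P (kernel u))
    (a b c : ℤ) (hab : a ≤ b) (F : CochainComplex C ℤ)
    (hP : ∀ i, P (F.X i)) (hvan : ∀ i, i < a ∨ c < i → IsZero (F.X i))
    (hcoh : ∀ i, b < i → IsZero (F.homology i)) :
    ∃ F' : CochainComplex C ℤ, (∀ i, P (F'.X i)) ∧ (∀ i, i < a ∨ min b c < i → IsZero (F'.X i)) ∧
      Nonempty (Q.obj F' ≅ Q.obj F) := by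
  by_cases hbc : c ≤ b
  · exact ⟨F, hP, fun i hi => hvan i (by omega), ⟨Iso.refl _⟩⟩
  haveI : F.IsLE b := by
    rw [CochainComplex.isLE_iff]
    exact fun j hj => (exactAt_iff_isZero_homology _ _).2 (hcoh j hj)
  have hc : P (F.cycles b) := cycles_mem hst F b c (fun j _ => hP j) (fun j hj => hvan j (Or.inr hj))
    (fun j hj => (exactAt_iff_isZero_homology _ _).2 (hcoh j hj)) b le_rfl
  refine ⟨F.truncLE b, fun i => ?_, fun i hi => ?_, ⟨asIso (Q.map (F.ιTruncLE b))⟩⟩
  · rcases lt_trichotomy i b with h | rfl | h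
    · exact P.prop_of_iso (F.truncLEXIso b i h).symm (hP i)
    · exact P.prop_of_iso (F.truncLEXIsoCycles i).symm hc
    · exact mem_of_isZero ((F.truncLE b).isZero_of_isStrictlyLE b i h)
  · rcases hi with h | h
    · exact (hvan i (Or.inl h)).of_iso (F.truncLEXIso b i (by omega))
    · exact (F.truncLE b).isZero_of_isStrictlyLE b i (by omega)

/-- The first term of a complex of perfect amplitude. -/
theorem first_term_mem (hsum : ∀ X Y : C, P X → P Y → P (X ⨯ Y))
    (hlift : ∀ (E F : C) (u : E ⟶ F), Epi u → P F → IsSplitEpi u)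
    (hst : ∀ (E F : C) (u : E ⟶ F), Epi u → P E → P F → P (kernel u))
    (a b : ℤ) (F : CochainComplex C ℤ) (hvan : ∀ i, i < a ∨ b < i → IsZero (F.X i))
    (hP : ∀ i, a < i → P (F.X i)) (E : CochainComplex C ℤ) (hEP : ∀ i, P (E.X i))
    (hE : ∀ i, i < a ∨ b < i → IsZero (E.X i)) (e : Q.obj E ≅ Q.obj F) : P (F.X a) := by
  haveI := isKProjective_of_mem hlift hEP b fun i hi => hE i (Or.inr hi)
  obtain ⟨f, hf⟩ := exists_Q_map e.hom
  haveI : IsIso (Q.map f) := by rw [hf]; infer_instance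
  have hq : QuasiIso f := (isIso_Q_map_iff_quasiIso (φ := f)).1 inferInstance
  let M := mappingCone f
  have hM : ∀ j, M.ExactAt j := fun j => (exactAt_iff_isZero_homology _ _).2
    ((nqis_iff_cone f j).1 ((quasiIso_iff_nqis f).1 hq j) j le_rfl)
  have hMb : ∀ j, b < j → IsZero (M.X j) := fun j hj => by
    rw [mappingCone.isZero_X_iff]
    exact ⟨hE _ (by omega), hvan _ (Or.inr hj)⟩
  have hc : P (M.cycles (a + 1)) := cycles_mem hst M (a + 1) b
    (fun j hj => cone_mem hsum f j (hEP _) (hP j (by omega))) hMb (fun j _ => hM j) (a + 1) le_rfl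
  haveI := epi_toCycles (E := M) (a - 1) a (by omega) (hM a)
  haveI : Mono (M.d (a - 1) a) := by
    have h := hM (a - 1)
    rw [M.exactAt_iff' (a - 2) (a - 1) a (by simp; omega) (by simp)] at h
    exact h.mono_g (IsZero.eq_of_src
      ((mappingCone.isZero_X_iff f (a - 2)).2 ⟨hE _ (by omega), hvan _ (Or.inl (by omega))⟩) _ _)
  haveI : Mono (M.toCycles (a - 1) a) := mono_of_mono_fac (M.toCycles_i (a - 1) a)
  haveI := isIso_of_mono_of_epi (M.toCycles (a - 1) a)
  have hca : P (M.cycles a) := by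
    refine P.prop_of_iso (asIso (M.toCycles (a - 1) a)) (cone_mem hsum f (a - 1) ?_ ?_)
    · rw [show a - 1 + 1 = a by omega]
      exact hEP a
    · exact mem_of_isZero (hvan _ (Or.inl (by omega)))
  haveI := epi_toCycles (E := M) a (a + 1) rfl (hM (a + 1))
  haveI := hlift _ _ (M.toCycles a (a + 1)) inferInstance hc
  let S : ShortComplex C := ShortComplex.mk (M.iCycles a) (M.toCycles a (a + 1)) (by
    rw [← cancel_mono (M.iCycles (a + 1)), Category.assoc, toCycles_i, iCycles_d, zero_comp])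
  have hS : S.Exact := by
    refine ShortComplex.exact_of_f_is_kernel _ (isKernelOfComp (M.iCycles (a + 1)) _
      (M.cyclesIsKernel a (a + 1) (by simp)) S.zero (M.toCycles_i a (a + 1)))
  let σ : S.Splitting := ShortComplex.Splitting.ofExactOfSection S hS (section_ (M.toCycles a (a + 1)))
    (IsSplitEpi.id _) (inferInstanceAs (Mono (M.iCycles a)))
  have hMa : P (M.X a) := P.prop_of_iso σ.isoBinaryBiproduct.symm (biprod_mem hsum hca hc)
  let T : ShortComplex C := ShortComplex.mk ((mappingCone.inr f).f a) ((mappingCone.fst f).1.v a (a + 1) rfl) (by simp)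
  let τ : T.Splitting :=
    { r := (mappingCone.snd f).v a a (add_zero a)
      s := (mappingCone.inl f).v (a + 1) a (by omega)
      f_r := by simp [T]
      s_g := by simp [T]
      id := by
        rw [mappingCone.ext_from_iff f (a + 1) a rfl]
        constructor <;> simp [T] <;> rfl }
  haveI := τ.shortExact.epi_g
  exact P.prop_of_iso (IsLimit.conePointUniqueUpToIso (kernelIsKernel T.g) τ.shortExact.fIsKernel)
    (hst _ _ T.g inferInstance hMa (hEP (a + 1)))

/-- Direct factors of objects of perfect amplitude. -/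
theorem amplitude_retract (hsum : ∀ X Y : C, P X → P Y → P (X ⨯ Y))
    (hlift : ∀ (E F : C) (u : E ⟶ F), Epi u → P F → IsSplitEpi u)
    (hst : ∀ (E F : C) (u : E ⟶ F), Epi u → P E → P F → P (kernel u))
    (hfac : ∀ (E' E'' : C) [HasBinaryBiproduct E' E''], P (E' ⊞ E'') → P E' ∧ P E'')
    (a b : ℤ) (E : CochainComplex C ℤ) (hEP : ∀ i, P (E.X i)) (hE : ∀ i, i < a ∨ b < i → IsZero (E.X i))
    (X : DerivedCategory C) (hX : PCoh.IsPC P X) (ι : X ⟶ Q.obj E) (π : Q.obj E ⟶ X) (hιπ : ι ≫ π = 𝟙 X) :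
    ∃ G : CochainComplex C ℤ, (∀ i, P (G.X i)) ∧ (∀ i, i < a ∨ b < i → IsZero (G.X i)) ∧
      Nonempty (Q.obj G ≅ X) := by
  obtain ⟨K, ⟨eK⟩⟩ := exists_complex X
  have hzero : ∀ j, IsZero (E.homology j) → IsZero (K.homology j) := fun j hj => by
    haveI : IsSplitMono ι := ⟨⟨⟨π, hιπ⟩⟩⟩
    refine (isZero_H_iff K j).1 (IsZero.of_iso ?_ ((homologyFunctor C j).mapIso eK))
    exact IsZero.of_mono ((homologyFunctor C j).map ι) ((isZero_H_iff E j).2 hj)
  obtain ⟨G, w, hG, hGz, hw⟩ := exists_resolution hsum (quasiStable_of_lift hst) (quasiLiftable_of_lift hlift) (b + 1) K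
    (fun n => PCn.of_iso (hX n) eK.symm)
    (fun j hj => hzero j (isZero_homology_of_isZero (hE j (Or.inr (by omega)))))
  haveI := hw
  let eG : Q.obj G ≅ X := asIso (Q.map w) ≪≫ eK
  haveI := isKProjective_of_mem hlift hG.2 b fun j hj => hGz j (by omega)
  haveI := isKProjective_of_mem hlift hEP b fun j hj => hE j (Or.inr hj)
  obtain ⟨i, hi⟩ := exists_Q_map (eG.hom ≫ ι)
  obtain ⟨r, hr⟩ := exists_Q_map (π ≫ eG.inv)
  obtain ⟨h⟩ := nonempty_homotopy (𝟙 G) (i ≫ r) (by
    rw [CategoryTheory.Functor.map_id, Functor.map_comp, hi, hr, Category.assoc, reassoc_of% hιπ, Iso.hom_inv_id])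
  haveI : G.IsGE a := by
    rw [CochainComplex.isGE_iff]
    intro j hj
    rw [exactAt_iff_isZero_homology]
    exact (hzero j (isZero_homology_of_isZero (hE j (Or.inl hj)))).of_iso (asIso (homologyMap w j))
  have hop : P (G.opcycles a) := by
    let s : G.opcycles a ⟶ E.X a ⊞ G.X (a + 1) := biprod.lift
      (G.descOpcycles (i.f a) (a - 1) (by simp) (by
        rw [← i.comm, (hE (a - 1) (Or.inl (by omega))).eq_of_tgt (i.f (a - 1)) 0, zero_comp]))
      (G.fromOpcycles a (a + 1))
    let t : E.X a ⊞ G.X (a + 1) ⟶ G.opcycles a :=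
      biprod.desc (r.f a ≫ G.pOpcycles a) (h.hom (a + 1) a ≫ G.pOpcycles a)
    have hst' : s ≫ t = 𝟙 _ := by
      rw [← cancel_epi (G.pOpcycles a), Category.comp_id, biprod.lift_desc, Preadditive.comp_add,
        p_descOpcycles_assoc, p_fromOpcycles_assoc]
      have hc := h.comm a
      rw [dNext_eq h.hom (show (ComplexShape.up ℤ).Rel a (a + 1) from rfl),
        prevD_eq h.hom (show (ComplexShape.up ℤ).Rel (a - 1) a by simp)] at hc
      conv_rhs => rw [show G.pOpcycles a = (𝟙 G : G ⟶ G).f a ≫ G.pOpcycles a by simp, hc]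
      simp [add_comm]
    haveI : IsSplitEpi t := ⟨⟨⟨s, hst'⟩⟩⟩
    let S : ShortComplex C := ShortComplex.mk (kernel.ι t) t (kernel.condition t)
    let σ : S.Splitting := ShortComplex.Splitting.ofExactOfSection S
      (ShortComplex.exact_of_f_is_kernel _ (kernelIsKernel t)) s hst' (inferInstanceAs (Mono (kernel.ι t)))
    exact (hfac _ _ (P.prop_of_iso σ.isoBinaryBiproduct (biprod_mem hsum (hEP a) (hG.2 (a + 1))))).2
  refine ⟨G.truncGE a, fun j => ?_, fun j hj => ?_, ⟨(asIso (Q.map (G.πTruncGE a))).symm ≪≫ eG⟩⟩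
  · rcases lt_trichotomy j a with h' | rfl | h'
    · exact mem_of_isZero ((G.truncGE a).isZero_of_isStrictlyGE a j h')
    · exact P.prop_of_iso (G.truncGEXIsoOpcycles j).symm hop
    · exact P.prop_of_iso (G.truncGEXIso a j h').symm (hG.2 j)
  · rcases hj with h' | h'
    · exact (G.truncGE a).isZero_of_isStrictlyGE a j h'
    · rcases lt_trichotomy j a with h'' | rfl | h''
      · exact (G.truncGE a).isZero_of_isStrictlyGE a j h''
      · haveI : Epi (G.pOpcycles j) := inferInstance
        exact (IsZero.of_epi (G.pOpcycles j) (hGz j (by omega))).of_iso (G.truncGEXIsoOpcycles j)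
      · exact (hGz j (by omega)).of_iso (G.truncGEXIso a j h'')

end Hom

end Groth.Agent.PCohH7
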