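import Groth.Agent.PCohH7.Basic
import Mathlib.Algebra.Homology.HomotopyCategory.HomComplexSingle

/-! Modifying a complex in one degree, and factorisation of `n`-quasi-isomorphisms. -/

set_option autoImplicit false
set_option backward.isDefEq.respectTransparency false

universe w v u

open CategoryTheory CategoryTheory.Limits CochainComplex CochainComplex.HomComplex HomologicalComplex

noncomputable section

namespace Groth.Agent.PCohH7

variable {C : Type u} [Category.{v} C] [Abelian C]

lemma isIso_homologyMap_of_isIso_f {K L : CochainComplex C ℤ} (f : K ⟶ L) (j : ℤ) (h₁ : Epi (f.f (j - 1)))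
    (h₂ : IsIso (f.f j)) (h₃ : Mono (f.f (j + 1))) : IsIso (homologyMap f j) := by
  rw [← quasiIsoAt_iff_isIso_homologyMap, quasiIsoAt_iff' f (j - 1) j (j + 1) (by simp) (by simp)]
  haveI : Epi ((shortComplexFunctor' C (ComplexShape.up ℤ) (j - 1) j (j + 1)).map f).τ₁ := h₁
  haveI : IsIso ((shortComplexFunctor' C (ComplexShape.up ℤ) (j - 1) j (j + 1)).map f).τ₂ := h₂
  haveI : Mono ((shortComplexFunctor' C (ComplexShape.up ℤ) (j - 1) j (j + 1)).map f).τ₃ := h₃
  exact ShortComplex.quasiIso_of_epi_of_isIso_of_mono _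

lemma epi_homologyMap_of_isIso_f {K L : CochainComplex C ℤ} (f : K ⟶ L) (j : ℤ)
    (h₂ : IsIso (f.f j)) (h₃ : Mono (f.f (j + 1))) : Epi (homologyMap f j) := by
  haveI : IsIso (cyclesMap f j) := by
    refine ShortComplex.isIso_cyclesMap_of_isIso_of_mono' _ h₂ ?_
    show Mono (f.f ((ComplexShape.up ℤ).next j))
    rw [CochainComplex.next]
    exact h₃
  exact ShortComplex.epi_homologyMap_of_epi_cyclesMap' _ (inferInstanceAs (Epi (cyclesMap f j)))

lemma isIso_map_f {E E' F F' : CochainComplex C ℤ} (u : E ⟶ F) (u' : E' ⟶ F') (a : E ⟶ E') (b : F ⟶ F')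
    (comm : u ≫ b = a ≫ u') (i : ℤ) (ha : IsIso (a.f (i + 1))) (hb : IsIso (b.f i)) :
    IsIso ((mappingCone.map u u' a b comm).f i) := by
  refine ⟨⟨(mappingCone.fst u').1.v i (i + 1) rfl ≫ inv (a.f (i + 1)) ≫ (mappingCone.inl u).v (i + 1) i (by omega) +
    (mappingCone.snd u').v i i (add_zero i) ≫ inv (b.f i) ≫ (mappingCone.inr u).f i, ?_, ?_⟩⟩
  all_goals simp [mappingCone.map, mappingCone.ext_from_iff _ (i + 1) i rfl]

variable {P : ObjectProperty C} [P.IsClosedUnderIsomorphisms] [P.ContainsZero]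

lemma exists_cycle_lift (hql : PCoh.IsQuasiLiftable P) {K : CochainComplex C ℤ} {n : ℤ}
    (h : PCoh.IsOfFiniteType P (K.homology n)) :
    ∃ (X : C) (z : X ⟶ K.cycles n), P X ∧ Epi (z ≫ K.homologyπ n) := by
  obtain ⟨X₀, π, hX₀, hπ⟩ := h
  obtain ⟨X, v, hX, hv⟩ := hql _ _ (pullback.snd (K.homologyπ n) π) inferInstance hX₀
  refine ⟨X, v ≫ pullback.fst (K.homologyπ n) π, hX, ?_⟩
  rw [Category.assoc, pullback.condition, ← Category.assoc]
  exact epi_comp _ _

/-- Modifying the source of an `(n + 1)`-quasi-isomorphism in degree `n` only. -/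
theorem modify (hsum : ∀ X Y : C, P X → P Y → P (X ⨯ Y)) (hql : PCoh.IsQuasiLiftable P) (n : ℤ)
    {E F : CochainComplex C ℤ} (u : E ⟶ F) (hu : NQis (n + 1) u)
    (hcone : PCoh.IsOfFiniteType P ((mappingCone u).homology n)) :
    ∃ (E' : CochainComplex C ℤ) (v : E ⟶ E') (u' : E' ⟶ F), v ≫ u' = u ∧ (∀ i, Mono (v.f i)) ∧
      (∀ i, i ≠ n → IsIso (v.f i)) ∧ P (cokernel (v.f n)) ∧ (∀ i, P (E.X i) → P (E'.X i)) ∧ NQis n u' := by
  obtain ⟨X, z, hX, hz⟩ := exists_cycle_lift hql hcone
  let a : X ⟶ E.X (n + 1) := z ≫ (mappingCone u).iCycles n ≫ (mappingCone.fst u).1.v n (n + 1) rfl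
  let b : X ⟶ F.X n := z ≫ (mappingCone u).iCycles n ≫ (mappingCone.snd u).v n n (add_zero n)
  have hzd : (z ≫ (mappingCone u).iCycles n) ≫ (mappingCone u).d n (n + 1) = 0 := by simp
  have ha : a ≫ E.d (n + 1) (n + 1 + 1) = 0 := by
    have := congrArg (· ≫ (mappingCone.fst u).1.v (n + 1) (n + 1 + 1) rfl) hzd
    rw [Category.assoc, mappingCone.d_fst_v u n (n + 1) (n + 1 + 1) rfl rfl, zero_comp] at this
    simpa [a] using this
  have hab : a ≫ u.f (n + 1) + b ≫ F.d n (n + 1) = 0 := by
    have := congrArg (· ≫ (mappingCone.snd u).v (n + 1) (n + 1) (add_zero _)) hzd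
    rw [Category.assoc, mappingCone.d_snd_v u n (n + 1) rfl, zero_comp] at this
    simpa [a, b] using this
  let S : CochainComplex C ℤ := (CochainComplex.singleFunctor C (n + 1)).obj X
  have hS : ∀ i, i ≠ n + 1 → IsZero (S.X i) := fun i hi => isZero_single_obj_X _ _ _ _ hi
  have hSd : ∀ i j, S.d i j = 0 := fun i j => single_obj_d _ _ _ _ _
  let φ : S ⟶ E := mkHomFromSingle a (fun i (hi : n + 1 + 1 = i) => by subst hi; exact ha)
  let α : Cochain S F (-1) := Cochain.fromSingleMk (-b) (show n + 1 + -1 = n by omega)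
  have hδ : δ (-1) 0 α = Cochain.ofHom (φ ≫ u) := by
    rw [Cochain.δ_fromSingleMk _ _ 0 (n + 1) (add_zero _)]
    ext p
    rcases eq_or_ne p (n + 1) with rfl | hp
    · simp only [Cochain.fromSingleMk_v, Cochain.ofHom_v, HomologicalComplex.comp_f, φ]
      rw [mkHomFromSingle_f, Category.assoc, Preadditive.neg_comp]
      congr 1
      exact neg_eq_iff_add_eq_zero.2 ((add_comm _ _).trans hab)
    · exact (hS p hp).eq_of_src _ _
  let u' : mappingCone φ ⟶ F := mappingCone.desc φ α u hδ
  have hfac : mappingCone.inr φ ≫ u' = u := mappingCone.inr_desc _ _ _ _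
  have hmono : ∀ i, Mono ((mappingCone.inr φ).f i) := fun i =>
    mono_of_mono_fac (mappingCone.inr_f_snd_v φ i)
  have hiso : ∀ i, i ≠ n → IsIso ((mappingCone.inr φ).f i) := fun i hi =>
    ⟨⟨(mappingCone.snd φ).v i i (add_zero i), mappingCone.inr_f_snd_v φ i, by
      rw [mappingCone.ext_from_iff φ (i + 1) i rfl]
      exact ⟨(hS (i + 1) (by omega)).eq_of_src _ _, by simp⟩⟩⟩
  refine ⟨mappingCone φ, mappingCone.inr φ, u', hfac, hmono, hiso, ?_, fun i hi => ?_, ?_⟩
  · let T : ShortComplex C := ShortComplex.mk ((mappingCone.inr φ).f n)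
      ((mappingCone.fst φ).1.v n (n + 1) rfl ≫ (singleObjXSelf (ComplexShape.up ℤ) (n + 1) X).hom) (by simp)
    let sp : T.Splitting :=
      { r := (mappingCone.snd φ).v n n (add_zero n)
        s := (singleObjXSelf (ComplexShape.up ℤ) (n + 1) X).inv ≫ (mappingCone.inl φ).v (n + 1) n (by omega)
        f_r := by simp [T]
        s_g := by simp [T]
        id := by
          rw [mappingCone.ext_from_iff φ (n + 1) n rfl]
          constructor <;> simp [T] <;> rfl }
    exact P.prop_of_iso ((cokernelIsCokernel _).coconePointUniqueUpToIso sp.shortExact.gIsCokernel).symm hX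
  · refine cone_mem hsum φ i ?_ hi
    rcases eq_or_ne (i + 1) (n + 1) with h | h
    · rw [h]
      exact P.prop_of_iso (singleObjXSelf (ComplexShape.up ℤ) (n + 1) X).symm hX
    · exact mem_of_isZero (hS _ h)
  · rw [nqis_iff_cone]
    let M : mappingCone u ⟶ mappingCone u' :=
      mappingCone.map u u' (mappingCone.inr φ) (𝟙 F) (by rw [Category.comp_id, hfac])
    have hM : ∀ i, n ≤ i → IsIso (M.f i) := fun i hi =>
      isIso_map_f _ _ _ _ _ i (hiso _ (by omega)) (by simp only [HomologicalComplex.id_f]; infer_instance)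
    have h0 := (nqis_iff_cone u (n + 1)).1 hu
    intro i hi
    rcases eq_or_lt_of_le hi with rfl | hi'
    · haveI := hM n le_rfl
      haveI := hM (n + 1) (by omega)
      haveI := epi_homologyMap_of_isIso_f M n inferInstance inferInstance
      haveI := hz
      let ξ : X ⟶ (mappingCone u').X (n - 1) :=
        -((singleObjXSelf (ComplexShape.up ℤ) (n + 1) X).inv ≫ (mappingCone.inl φ).v (n + 1) n (by omega) ≫
          (mappingCone.inl u').v n (n - 1) (by omega))
      have hξ : z ≫ cyclesMap M n = ξ ≫ (mappingCone u').toCycles (n - 1) n := by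
        rw [← cancel_mono ((mappingCone u').iCycles n), Category.assoc, cyclesMap_i, Category.assoc, toCycles_i]
        have hz' : z ≫ (mappingCone u).iCycles n =
            a ≫ (mappingCone.inl u).v (n + 1) n (by omega) + b ≫ (mappingCone.inr u).f n := by
          rw [mappingCone.ext_to_iff u n (n + 1) rfl]
          simp [a, b]
        rw [← Category.assoc, hz']
        simp only [ξ, Preadditive.neg_comp, Category.assoc,
          mappingCone.inl_v_d u' n (n - 1) (n + 1) (by omega) (by omega), Preadditive.comp_sub,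
          Preadditive.add_comp]
        simp [M, mappingCone.map, u', α, φ, hSd, mappingCone.inl_v_d_assoc φ (n + 1) n (n + 1 + 1) (by omega) (by omega)]
      rw [IsZero.iff_id_eq_zero, ← cancel_epi (homologyMap M n), ← cancel_epi (z ≫ (mappingCone u).homologyπ n),
        Category.comp_id, comp_zero, comp_zero, Category.assoc, homologyπ_naturality, ← Category.assoc, hξ,
        Category.assoc, toCycles_comp_homologyπ, comp_zero]
    · haveI := hM (i - 1) (by omega)
      haveI := hM (i + 1) (by omega)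
      haveI := isIso_homologyMap_of_isIso_f M i inferInstance (hM i hi'.le) inferInstance
      exact (h0 i (by omega)).of_iso (asIso (homologyMap M i)).symm

/-- An `n`-quasi-isomorphism factors as a map which is an isomorphism in degrees `≥ n` followed by a
quasi-isomorphism. -/
theorem factor (n : ℤ) {E F : CochainComplex C ℤ} (u : E ⟶ F) (hu : NQis n u) :
    ∃ (E' : CochainComplex C ℤ) (v : E ⟶ E') (u' : E' ⟶ F), v ≫ u' = u ∧ QuasiIso u' ∧
      (∀ i, Mono (v.f i)) ∧ (∀ i, n ≤ i → IsIso (v.f i)) := by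
  let D := mappingCone (𝟙 E)
  let up : E ⟶ F ⊞ D := biprod.lift u (mappingCone.inr (𝟙 E))
  haveI : Mono up := by
    haveI : ∀ i, Mono ((mappingCone.inr (𝟙 E)).f i) := fun i => mono_of_mono_fac (mappingCone.inr_f_snd_v _ i)
    haveI : Mono (mappingCone.inr (𝟙 E)) := HomologicalComplex.mono_of_mono_f _ inferInstance
    exact mono_of_mono_fac (biprod.lift_snd u (mappingCone.inr (𝟙 E)))
  have hfst : ∀ i, IsIso (homologyMap (biprod.fst : F ⊞ D ⟶ F) i) := fun i => by
    refine ⟨homologyMap biprod.inl i, ?_, ?_⟩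
    · have h0 : homologyMap (biprod.snd : F ⊞ D ⟶ D) i = 0 := IsZero.eq_of_tgt (by
        rw [IsZero.iff_id_eq_zero, ← homologyMap_id, (mappingCone.homotopyToZeroOfId E).homologyMap_eq,
          homologyMap_zero]) _ _
      rw [← homologyMap_comp, ← homologyMap_id,
        show biprod.fst ≫ biprod.inl = 𝟙 (F ⊞ D) - biprod.snd ≫ biprod.inr by
          rw [eq_sub_iff_add_eq]; exact biprod.total,
        homologyMap_sub, homologyMap_comp, h0, zero_comp, sub_zero]
    · rw [← homologyMap_comp, biprod.inl_fst, homologyMap_id]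
  have hup : NQis n up := by
    have e : ∀ i, homologyMap up i ≫ homologyMap (biprod.fst : F ⊞ D ⟶ F) i = homologyMap u i := fun i => by
      rw [← homologyMap_comp, biprod.lift_fst]
    refine ⟨fun i hi => ?_, ?_⟩
    · haveI := hfst i
      haveI := hu.1 i hi
      haveI : IsIso (homologyMap up i ≫ homologyMap (biprod.fst : F ⊞ D ⟶ F) i) := by rw [e]; infer_instance
      exact IsIso.of_isIso_comp_right _ (homologyMap (biprod.fst : F ⊞ D ⟶ F) i)
    · haveI := hfst n
      haveI := hu.2
      haveI : Epi (homologyMap up n ≫ homologyMap (biprod.fst : F ⊞ D ⟶ F) n) := by rw [e]; infer_instance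
      have hh : homologyMap up n = homologyMap u n ≫ inv (homologyMap (biprod.fst : F ⊞ D ⟶ F) n) :=
        (IsIso.eq_comp_inv _).2 (e n)
      rw [hh]
      exact epi_comp _ _
  let S₀ : ShortComplex (CochainComplex C ℤ) := ShortComplex.mk up (cokernel.π up) (cokernel.condition up)
  have hS₀ : S₀.ShortExact :=
    { exact := S₀.exact_of_g_is_cokernel (cokernelIsCokernel up) }
  let Q₀ := S₀.X₃
  have hQ₀ : ∀ i, n ≤ i → IsZero (Q₀.homology i) := (nqis_iff_of_shortExact hS₀ n).1 hup
  have hT := Q₀.shortComplexTruncLE_shortExact (n - 1)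
  have hT0 : ∀ i, IsZero ((Q₀.shortComplexTruncLE (n - 1)).X₃.homology i) := fun i => by
    haveI : Q₀.IsLE (n - 1) := by
      rw [CochainComplex.isLE_iff]
      intro j hj
      rw [HomologicalComplex.exactAt_iff_isZero_homology]
      exact hQ₀ j (by omega)
    exact (nqis_iff_of_shortExact hT i).1
      ((quasiIso_iff_nqis _).1 (inferInstanceAs (QuasiIso (Q₀.ιTruncLE (n - 1)))) i) i le_rfl
  let g : F ⊞ D ⟶ (Q₀.shortComplexTruncLE (n - 1)).X₃ := S₀.g ≫ (Q₀.shortComplexTruncLE (n - 1)).g
  haveI := hS₀.epi_g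
  haveI := hT.epi_g
  haveI : Epi g := epi_comp _ _
  let S₁ : ShortComplex (CochainComplex C ℤ) := ShortComplex.mk (kernel.ι g) g (kernel.condition g)
  have hS₁ : S₁.ShortExact :=
    { exact := S₁.exact_of_f_is_kernel (kernelIsKernel g) }
  have hι : QuasiIso (kernel.ι g) := (quasiIso_iff_nqis _).2 fun m =>
    (nqis_iff_of_shortExact hS₁ m).2 fun i _ => hT0 i
  let v : E ⟶ kernel g := kernel.lift g up (by
    show up ≫ S₀.g ≫ _ = 0
    rw [← Category.assoc, show up ≫ S₀.g = 0 from S₀.zero, zero_comp])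
  have hv : v ≫ kernel.ι g = up := kernel.lift_ι _ _ _
  haveI : Mono v := mono_of_mono_fac hv
  haveI hιq : QuasiIso (kernel.ι g ≫ biprod.fst) := by
    haveI : QuasiIso (biprod.fst : F ⊞ D ⟶ F) := (quasiIso_iff_homologyMap _).2 hfst
    infer_instance
  refine ⟨kernel g, v, kernel.ι g ≫ biprod.fst, ?_, hιq, fun i => inferInstance, fun i hi => ?_⟩
  · rw [← Category.assoc, hv, biprod.lift_fst]
  · let ev := HomologicalComplex.eval C (ComplexShape.up ℤ) i
    have hT' := hT.map_of_exact ev
    have hS₀' := hS₀.map_of_exact ev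
    have hS₁' := hS₁.map_of_exact ev
    haveI : IsIso ((Q₀.shortComplexTruncLE (n - 1)).g.f i) := by
      have : IsZero ((Q₀.truncLE (n - 1)).X i) := CochainComplex.isZero_of_isStrictlyLE _ (n - 1) i (by omega)
      exact hT'.isIso_g_iff.2 this
    have hw : (kernel.ι g).f i ≫ S₀.g.f i = 0 := by
      rw [← cancel_mono ((Q₀.shortComplexTruncLE (n - 1)).g.f i), zero_comp, Category.assoc]
      exact congrArg (fun f => f.f i) (kernel.condition g)
    haveI := hS₀'.mono_f
    haveI := hS₁'.mono_f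
    haveI : Mono (up.f i) := ‹Mono (S₀.map ev).f›
    haveI : Mono ((kernel.ι g).f i) := ‹Mono (S₁.map ev).f›
    have hvi : v.f i ≫ (kernel.ι g).f i = up.f i := by rw [← HomologicalComplex.comp_f, hv]
    let r : (kernel g).X i ⟶ E.X i := hS₀'.exact.lift ((kernel.ι g).f i) hw
    have hr : r ≫ up.f i = (kernel.ι g).f i := hS₀'.exact.lift_f _ _
    exact ⟨⟨r, by rw [← cancel_mono (up.f i), Category.assoc, hr, hvi, Category.id_comp],
      by rw [← cancel_mono ((kernel.ι g).f i), Category.assoc, hvi, hr, Category.id_comp]⟩⟩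

end Groth.Agent.PCohH7
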