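import Groth.Agent.PCohH7.Terms
import Mathlib.Algebra.Homology.HomologicalComplexBiprod

/-! Direct sums. -/

set_option autoImplicit false
set_option backward.isDefEq.respectTransparency false

universe w v u

open CategoryTheory CategoryTheory.Limits CochainComplex HomologicalComplex Pretriangulated

noncomputable section

namespace Groth.Agent.PCohH7

variable {C : Type u} [Category.{v} C] [Abelian C] {P : ObjectProperty C} [P.IsClosedUnderIsomorphisms]
  [P.ContainsZero]

lemma epi_homologyMap_cone_map {E E' F F' : CochainComplex C ℤ} (u : E ⟶ F) (u' : E' ⟶ F')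
    (a : E ⟶ E') (b : F ⟶ F') (comm : u ≫ b = a ≫ u') (a' : E' ⟶ E) (b' : F' ⟶ F) (comm' : u' ≫ b' = a' ≫ u)
    (ha : a' ≫ a = 𝟙 E') (hb : b' ≫ b = 𝟙 F') (k : ℤ) :
    Epi (homologyMap (mappingCone.map u u' a b comm) k) := by
  have h : mappingCone.map u' u a' b' comm' ≫ mappingCone.map u u' a b comm = 𝟙 _ := by
    rw [← mappingCone.map_comp]
    simp only [ha, hb]
    exact mappingCone.map_id u'
  haveI : IsSplitEpi (homologyMap (mappingCone.map u u' a b comm) k) :=
    ⟨⟨⟨homologyMap (mappingCone.map u' u a' b' comm') k, by rw [← homologyMap_comp, h, homologyMap_id]⟩⟩⟩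
  infer_instance

lemma strictPC_biprod (hsum : ∀ X Y : C, P X → P Y → P (X ⨯ Y)) {n : ℤ} {E F : CochainComplex C ℤ}
    (hE : PCoh.IsStrictPC P n E) (hF : PCoh.IsStrictPC P n F) : PCoh.IsStrictPC P n (E ⊞ F) := by
  obtain ⟨⟨b, hb⟩, hP⟩ := hE
  obtain ⟨⟨c, hc⟩, hQ⟩ := hF
  exact ⟨⟨max b c, fun j hj => (isZero_biprod (hb j (by omega)) (hc j (by omega))).of_iso (biprodXIso E F j)⟩,
    fun j hj => P.prop_of_iso (biprodXIso E F j).symm (biprod_mem hsum (hP j hj) (hQ j hj))⟩

lemma isIso_biprod_map {A A' B B' : C} (f : A ⟶ B) (g : A' ⟶ B') [IsIso f] [IsIso g] : IsIso (biprod.map f g) :=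
  inferInstanceAs (IsIso (biprod.mapIso (asIso f) (asIso g)).hom)

lemma nqis_biprod_map {n : ℤ} {E E' F F' : CochainComplex C ℤ} (u : E ⟶ F) (u' : E' ⟶ F') (hu : NQis n u)
    (hu' : NQis n u') : NQis n (biprod.map u u') := by
  have key : ∀ i, ∃ (e : (E ⊞ E').homology i ≅ E.homology i ⊞ E'.homology i)
      (e' : (F ⊞ F').homology i ≅ F.homology i ⊞ F'.homology i),
      homologyMap (biprod.map u u') i = e.hom ≫ biprod.map (homologyMap u i) (homologyMap u' i) ≫ e'.inv := fun i => by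
    let H := HomologicalComplex.homologyFunctor C (ComplexShape.up ℤ) i
    haveI : H.Additive := inferInstance
    haveI : PreservesBinaryBiproducts H := preservesBinaryBiproducts_of_preservesBiproducts H
    refine ⟨H.mapBiprod E E', H.mapBiprod F F', ?_⟩
    show H.map (biprod.map u u') = _ ≫ biprod.map (H.map u) (H.map u') ≫ _
    rw [← Iso.inv_comp_eq, Functor.mapBiprod_inv, Functor.mapBiprod_inv]
    ext <;> simp [← Functor.map_comp]
  refine ⟨fun i hi => ?_, ?_⟩
  · obtain ⟨e, e', he⟩ := key i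
    haveI := hu.1 i hi
    haveI := hu'.1 i hi
    haveI := isIso_biprod_map (homologyMap u i) (homologyMap u' i)
    rw [he]
    infer_instance
  · obtain ⟨e, e', he⟩ := key n
    haveI := hu.2
    haveI := hu'.2
    haveI : Epi (biprod.map (homologyMap u n) (homologyMap u' n)) := inferInstance
    rw [he]
    exact epi_comp _ _

variable [HasDerivedCategory.{w} C]

open DerivedCategory

/-- Pseudo-coherence of direct sums. -/
theorem pcn_biprod_iff (hsum : ∀ X Y : C, P X → P Y → P (X ⨯ Y)) (hqs : PCoh.IsQuasiStableUnderKernels P)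
    (hql : PCoh.IsQuasiLiftable P) (n : ℤ) (X Y : DerivedCategory C) [HasBinaryBiproduct X Y] :
    PCn P n (X ⊞ Y) ↔ PCn P n X ∧ PCn P n Y := by
  constructor
  · intro h
    obtain ⟨K, ⟨eX⟩⟩ := exists_complex X
    obtain ⟨L, ⟨eY⟩⟩ := exists_complex Y
    haveI : PreservesBinaryBiproducts (Q (C := C)) := preservesBinaryBiproducts_of_preservesBiproducts _
    have hKL : PCn P n (Q.obj (K ⊞ L)) := h.of_iso ((Q.mapBiprod K L) ≪≫ biprod.mapIso eX eY).symm
    obtain ⟨i, hni, hi⟩ := exists_bound hKL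
    have hbd : ∀ j, i ≤ j → IsZero (K.homology j) ∧ IsZero (L.homology j) := fun j hj => by
      constructor
      · haveI : IsSplitMono (homologyMap (biprod.inl : K ⟶ K ⊞ L) j) :=
          inferInstanceAs (IsSplitMono ((HomologicalComplex.homologyFunctor C _ j).map (biprod.inl : K ⟶ K ⊞ L)))
        exact IsZero.of_mono (homologyMap (biprod.inl : K ⟶ K ⊞ L) j) (hi j hj)
      · haveI : IsSplitMono (homologyMap (biprod.inr : L ⟶ K ⊞ L) j) :=
          inferInstanceAs (IsSplitMono ((HomologicalComplex.homologyFunctor C _ j).map (biprod.inr : L ⟶ K ⊞ L)))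
        exact IsZero.of_mono (homologyMap (biprod.inr : L ⟶ K ⊞ L) j) (hi j hj)
    suffices H : ∀ d : ℕ, n ≤ i - d → PCn P (i - d) (Q.obj K) ∧ PCn P (i - d) (Q.obj L) by
      obtain ⟨h1, h2⟩ := H (i - n).toNat (by omega)
      rw [show i - ((i - n).toNat : ℤ) = n by omega] at h1 h2
      exact ⟨h1.of_iso eX, h2.of_iso eY⟩
    intro d
    induction d with
    | zero =>
      intro _
      exact ⟨pcn_of_isZero_H _ fun j hj => (isZero_H_iff K j).2 (hbd j (by omega)).1,
        pcn_of_isZero_H _ fun j hj => (isZero_H_iff L j).2 (hbd j (by omega)).2⟩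
    | succ d ih =>
      intro hd
      obtain ⟨hK, hL⟩ := ih (by omega)
      have hle : i - (d : ℤ) ≤ i := by omega
      obtain ⟨E₁, u₁, hP₁, hz₁, hu₁⟩ := exists_perfect_approx hsum hql hle K (fun j hj => (hbd j hj).1)
        (fun k E' u' hk _ hu hE => ft_cone_of_strict hsum hqs hql hk u' hu hE hK)
      obtain ⟨E₂, u₂, hP₂, hz₂, hu₂⟩ := exists_perfect_approx hsum hql hle L (fun j hj => (hbd j hj).2)
        (fun k E' u' hk _ hu hE => ft_cone_of_strict hsum hqs hql hk u' hu hE hL)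
      let k := i - ((d + 1 : ℕ) : ℤ)
      have hk : i - (d : ℤ) = k + 1 := by simp only [k]; omega
      rw [hk] at hu₁ hu₂
      have hs₁ : PCoh.IsStrictPC P k E₁ := ⟨⟨i, fun j hj => hz₁ j (Or.inr hj.le)⟩, fun j _ => hP₁ j⟩
      have hs₂ : PCoh.IsStrictPC P k E₂ := ⟨⟨i, fun j hj => hz₂ j (Or.inr hj.le)⟩, fun j _ => hP₂ j⟩
      have hft := ft_cone_of_strict hsum hqs hql (le_refl k) (biprod.map u₁ u₂) (nqis_biprod_map u₁ u₂ hu₁ hu₂)
        (strictPC_biprod hsum hs₁ hs₂) (hKL.mono (by simp only [k]; omega))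
      have hf₁ : PCoh.IsOfFiniteType P ((mappingCone u₁).homology k) := by
        haveI := epi_homologyMap_cone_map (biprod.map u₁ u₂) u₁ biprod.fst biprod.fst (by simp) biprod.inl
          biprod.inl (by simp) (by simp) (by simp) k
        exact isOfFiniteType_of_epi (homologyMap (mappingCone.map (biprod.map u₁ u₂) u₁ biprod.fst biprod.fst
          _) k) hft
      have hf₂ : PCoh.IsOfFiniteType P ((mappingCone u₂).homology k) := by
        haveI := epi_homologyMap_cone_map (biprod.map u₁ u₂) u₂ biprod.snd biprod.snd (by simp) biprod.inr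
          biprod.inr (by simp) (by simp) (by simp) k
        exact isOfFiniteType_of_epi (homologyMap (mappingCone.map (biprod.map u₁ u₂) u₂ biprod.snd biprod.snd
          _) k) hft
      obtain ⟨E₁', v₁, w₁, -, -, hi₁, -, hm₁, hw₁⟩ := modify hsum hql k u₁ hu₁ hf₁
      obtain ⟨E₂', v₂, w₂, -, -, hi₂, -, hm₂, hw₂⟩ := modify hsum hql k u₂ hu₂ hf₂
      refine ⟨pcn_of_nqis w₁ hw₁ ⟨⟨i, fun j hj => ?_⟩, fun j _ => hm₁ j (hP₁ j)⟩,
        pcn_of_nqis w₂ hw₂ ⟨⟨i, fun j hj => ?_⟩, fun j _ => hm₂ j (hP₂ j)⟩⟩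
      · haveI := hi₁ j (by omega)
        exact (hz₁ j (Or.inr hj.le)).of_iso (asIso (v₁.f j)).symm
      · haveI := hi₂ j (by omega)
        exact (hz₂ j (Or.inr hj.le)).of_iso (asIso (v₂.f j)).symm
  · rintro ⟨⟨E, hE, ⟨e⟩⟩, ⟨F, hF, ⟨f⟩⟩⟩
    haveI : PreservesBinaryBiproducts (Q (C := C)) := preservesBinaryBiproducts_of_preservesBiproducts _
    exact ⟨E ⊞ F, strictPC_biprod hsum hE hF, ⟨Q.mapBiprod E F ≪≫ biprod.mapIso e f⟩⟩

end Groth.Agent.PCohH7
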